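import Cfsg.Agent.Mrg.Omega.NOThreeL.RRed.NS.Three

section


/-!
# NO-3L, box R: THEOREM EX (#26554), the abstract situation (text: helper245)

`H` acts faithfully on the elementary abelian 2-group `M`, `|A| |C_M(A)| ≤ |M|` for all elementary abelian `A ≤ H`.

* `Xa M A` : `A` is exact;  `Mn M A` : `A` is a minimal exact group;  `Fx W A` : `A` centralises `W`;
  `cw W A = C_A(W)`;
* `Gy M S PP W` : the group `S`, the parabolics `P ∈ PP` with their modules `W P`; facts about one `P`;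
* goal (`Ex/Main`): if all `B ≤ S` with `Mn M B` centralise the `H`-invariant `U`, then all exact elementary abelian
  `A ≤ S` centralise `U`.
-/

set_option autoImplicit false
set_option linter.unusedSectionVars false

namespace Cfsg.Agent.Omega.NOThreeL.RRed.Ex

open Subgroup
open scoped Pointwise
open Cfsg.Agent.Omega.NOThreeL.RRed.NS (fxd brk mem_fxd)
open Cfsg.Agent.Omega.NOThreeL.RRed.Blk.Types (Sit El)

universe u v

variable {H : Type u} {M : Type v} [Group H] [AddCommGroup M] [DistribMulAction H M]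

variable (M) in
/-- `A` is exact -/
def Xa (A : Subgroup H) : Prop := Nat.card M ≤ Nat.card A * Nat.card (fxd A : AddSubgroup M)

/-- `A` centralises `W` -/
def Fx (W : AddSubgroup M) (A : Subgroup H) : Prop := ∀ a ∈ A, ∀ w ∈ W, a • w = w

/-- `C_A(W)` -/
def cw (W : AddSubgroup M) (A : Subgroup H) : Subgroup H where
  carrier := {a | a ∈ A ∧ ∀ w ∈ W, a • w = w}
  mul_mem' := fun {a b} ha hb => ⟨mul_mem ha.1 hb.1, fun w hw => by rw [mul_smul, hb.2 w hw, ha.2 w hw]⟩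
  one_mem' := ⟨one_mem _, fun w _ => one_smul _ w⟩
  inv_mem' := fun {a} ha => ⟨inv_mem ha.1, fun w hw => by rw [inv_smul_eq_iff, ha.2 w hw]⟩

theorem mem_cw {W : AddSubgroup M} {A : Subgroup H} {a : H} : a ∈ cw W A ↔ a ∈ A ∧ ∀ w ∈ W, a • w = w := Iff.rfl

theorem cw_le {W : AddSubgroup M} {A : Subgroup H} : cw W A ≤ A := fun _ ha => ha.1

theorem fx_cw {W : AddSubgroup M} {A : Subgroup H} : Fx W (cw W A) := fun _ ha => ha.2

variable (M) in
/-- `A` is a minimal exact group -/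
structure Mn (A : Subgroup H) : Prop where
  el : El A
  ex : Xa M A
  ne : A ≠ ⊥
  min : ∀ B ≤ A, Xa M B → B = ⊥ ∨ B = A

variable (M) in
/-- **The situation.** -/
structure Gy (S : Subgroup H) (PP : Set (Subgroup H)) (W : Subgroup H → AddSubgroup M) : Prop where
  sit : Sit M (⊤ : Subgroup H)
  gen : sSup PP = ⊤
  SP : ∀ P ∈ PP, S ≤ P
  WP : ∀ P ∈ PP, ∀ p ∈ P, ∀ w ∈ W P, p • w ∈ W P
  PS : ∀ P ∈ PP, ∀ A ≤ S, Fx (W P) A → ∀ p ∈ P, MulAut.conj p • A ≤ S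
  gal : ∀ A ≤ S, A ≠ ⊥ → ∃ h : H, MulAut.conj h • A ≤ S ∧ ∃ P ∈ PP, ¬ Fx (W P) (MulAut.conj h • A)
  sy : ∀ P ∈ PP, ∀ A ≤ S, ∀ p ∈ P, ∃ k ∈ closure {x | ∃ g ∈ P, ∃ a ∈ A, x = g * a * g⁻¹},
    MulAut.conj (k * p) • A ≤ S
  split : ∀ P ∈ PP, ∀ A ≤ S, El A → Xa M A → ¬ Fx (W P) A →
    Xa M (cw (W P) A) ∧ ∀ m ∈ (fxd (cw (W P) A) : AddSubgroup M), ∃ w ∈ W P, ∃ c ∈ (fxd A : AddSubgroup M), m = w + c
  one : ∀ P ∈ PP, ∀ B ≤ S, Mn M B → ¬ Fx (W P) B → ∀ b ∈ B, b ≠ 1 → ∀ m : M, b • m = m →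
    m ∈ (fxd B : AddSubgroup M)
  quad : ∀ P ∈ PP, ∀ B ≤ S, Mn M B → ¬ Fx (W P) B → ∀ B' ≤ S, Mn M B' → brk M B ≤ fxd B'
  out : ∀ P ∈ PP, ∀ B ≤ S, Mn M B → ¬ Fx (W P) B → ∀ b ∈ B, ∀ m : M, b • m ≠ m →
    ∃ p ∈ P, ∃ c ∈ B, (p * c * p⁻¹) • (b • m - m) ∉ (fxd B : AddSubgroup M)
  pair : ∀ P ∈ PP, ∀ B ≤ S, ∀ B' ≤ S, Mn M B → Mn M B' → ¬ Fx (W P) B → ¬ Fx (W P) B' →
    ∀ b ∈ B, ∀ b' ∈ B', ∀ m m' : M, b • m - m = b' • m' - m' → b • m ≠ m →
      ∀ c ∈ B, ∃ c' ∈ B', ∀ w ∈ W P, c' • w = c • w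
  sg : ∀ P ∈ PP, ∀ A ≤ S, El A → Xa M A → ¬ Fx (W P) A →
    (∃ X ≤ A, ∃ Y ≤ A, X ≠ A ∧ Y ≠ A ∧ Xa M X ∧ Xa M Y ∧ X ⊔ Y = A) ∨
      (∀ a ∈ A, (¬ ∀ w ∈ W P, a • w = w) → ∀ w ∈ W P, a • w = w → w ∈ (fxd A : AddSubgroup M))
  cov : ∀ P ∈ PP, ∀ A ≤ S, El A → Xa M A → ¬ Fx (W P) A → ∀ U : AddSubgroup M, (∀ h : H, ∀ u ∈ U, h • u ∈ U) →
    U ≤ fxd (cw (W P) A) → ¬ U ≤ fxd A → ∀ s ∈ S, (∀ u ∈ U, s • u = u) → ∀ w ∈ W P, s • w = w
  wab : ∀ P ∈ PP, ∀ A ≤ S, El A → Xa M A → ∀ B ≤ S, Mn M B → ∀ a ∈ A, ∀ b ∈ B, ∀ w ∈ W P,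
    a • b • w = b • a • w

/-- **THEOREM EX**, the statement. -/
def ExThm (M : Type v) [AddCommGroup M] [DistribMulAction H M] (S : Subgroup H) : Prop :=
  ∀ U : AddSubgroup M, (∀ h : H, ∀ u ∈ U, h • u ∈ U) → (∀ B ≤ S, Mn M B → U ≤ fxd B) →
    ∀ A ≤ S, El A → Xa M A → U ≤ fxd A

/-- (b) -/
def CommMn (M : Type v) [AddCommGroup M] [DistribMulAction H M] (S : Subgroup H) : Prop :=
  ∀ A ≤ S, ∀ B ≤ S, Mn M A → Mn M B → ∀ a ∈ A, ∀ b ∈ B, a * b = b * a

/-- (one) -/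
def OneMn (M : Type v) [AddCommGroup M] [DistribMulAction H M] (S : Subgroup H) : Prop :=
  ∀ B ≤ S, Mn M B → ∀ b ∈ B, b ≠ 1 → ∀ m : M, b • m = m → m ∈ (fxd B : AddSubgroup M)

/-- (SC) -/
def ScMn (M : Type v) [AddCommGroup M] [DistribMulAction H M] (S : Subgroup H) : Prop :=
  ∀ A ≤ S, ∀ B ≤ S, Mn M A → Mn M B → ∀ a ∈ A, ∀ b ∈ B, ∀ m m' : M, a • m - m = b • m' - m' → a • m ≠ m → A = B

/-- (c) -/
def CommX (M : Type v) [AddCommGroup M] [DistribMulAction H M] (S : Subgroup H) : Prop :=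
  ∀ A ≤ S, El A → Xa M A → ∀ B ≤ S, Mn M B → ∀ a ∈ A, ∀ b ∈ B, a * b = b * a

end Cfsg.Agent.Omega.NOThreeL.RRed.Ex

end

section


/-!
# NO-3L, box R: THEOREM EX (#26554, helper245), part (d)

`exThm` : if the exact groups commute with the minimal exact groups (`CommX`), then an `H`-invariant `U` centralised by
all minimal exact `B ≤ S` is centralised by all exact elementary abelian `A ≤ S`.

Proof: `A ≤ S` exact of minimal order moving `U`, `B₀ ≤ A` minimal exact. For every `h` there is `g` with `A^g ≤ S` and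
`B₀^g = B₀^h` (`ind`): if `A^g` centralises `W P`, all its `P`-conjugates are in `S`; otherwise all minimal exact
`B ≤ S` centralise `W P` (`key`), so they are permuted by `P` and centralised by `⟨(A^g)^P⟩` (`CommX`): Frattini. The
gallery for `B₀` gives a contradiction.
-/

set_option autoImplicit false
set_option linter.unusedSectionVars false

namespace Cfsg.Agent.Omega.NOThreeL.RRed.Ex

open Subgroup
open scoped Pointwise
open Cfsg.Agent.Omega.NOThreeL.RRed.NS (fxd brk mem_fxd)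
open Cfsg.Agent.Omega.NOThreeL.RRed.Blk.Types (Sit El mem_cj card_cj fxd_cj)

universe u v

variable {H : Type u} {M : Type v} [Group H] [AddCommGroup M] [DistribMulAction H M]

namespace DAux

theorem cj_mul (x y : H) (A : Subgroup H) : MulAut.conj (x * y) • A = MulAut.conj x • MulAut.conj y • A := by
  rw [map_mul, mul_smul]

theorem cj_one (A : Subgroup H) : MulAut.conj (1 : H) • A = A := by
  rw [map_one, one_smul]

theorem cj_inv_cj (x : H) (A : Subgroup H) : MulAut.conj x⁻¹ • MulAut.conj x • A = A := by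
  rw [← cj_mul, inv_mul_cancel, cj_one]

theorem cj_cj_inv (x : H) (A : Subgroup H) : MulAut.conj x • MulAut.conj x⁻¹ • A = A := by
  rw [← cj_mul, mul_inv_cancel, cj_one]

theorem cj_mono (x : H) {A B : Subgroup H} (h : A ≤ B) : MulAut.conj x • A ≤ MulAut.conj x • B :=
  fun _ hy => mem_cj.2 (h (mem_cj.1 hy))

theorem card_fxd_cj (x : H) (A : Subgroup H) :
    Nat.card (fxd (MulAut.conj x • A) : AddSubgroup M) = Nat.card (fxd A : AddSubgroup M) :=
  Nat.card_congr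
    { toFun := fun m => ⟨x⁻¹ • (m : M), (fxd_cj x A).1 m.2⟩
      invFun := fun m => ⟨x • (m : M), (fxd_cj x A).2 (by rw [inv_smul_smul]; exact m.2)⟩
      left_inv := fun m => Subtype.ext (smul_inv_smul x (m : M))
      right_inv := fun m => Subtype.ext (inv_smul_smul x (m : M)) }

theorem xa_cj {A : Subgroup H} (h : Xa M A) (x : H) : Xa M (MulAut.conj x • A) := by
  unfold Xa at *
  rw [card_cj, card_fxd_cj]
  exact h

theorem cj_bot (x : H) : MulAut.conj x • (⊥ : Subgroup H) = ⊥ := by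
  rw [eq_bot_iff]
  intro y hy
  have h1 := mem_bot.1 (mem_cj.1 hy)
  rw [mem_bot]
  have e : y = x * (x⁻¹ * y * x) * x⁻¹ := by group
  rw [e, h1]; group

theorem mn_cj {A : Subgroup H} (h : Mn M A) (x : H) : Mn M (MulAut.conj x • A) where
  el := h.el.cj x
  ex := xa_cj h.ex x
  ne := fun e => h.ne (by rw [← cj_inv_cj x A, e, cj_bot])
  min := fun B hB hX => by
    have h1 : MulAut.conj x⁻¹ • B ≤ A := by
      have h2 := cj_mono x⁻¹ hB
      rwa [cj_inv_cj] at h2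
    rcases h.min _ h1 (xa_cj hX x⁻¹) with e | e
    · left
      rw [← cj_cj_inv x B, e, cj_bot]
    · right
      rw [← e, cj_cj_inv]

theorem el_mono {A B : Subgroup H} (h : El A) (hB : B ≤ A) : El B :=
  ⟨fun x hx => h.sq x (hB hx), fun x hx y hy => h.cm x (hB hx) y (hB hy)⟩

/-- An exact group `A ≠ 1` contains a minimal exact group. -/
theorem exists_mn [Finite H] {A : Subgroup H} (hA : El A) (hX : Xa M A) (h1 : A ≠ ⊥) : ∃ B ≤ A, Mn M B := by
  classical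
  have hp : ∃ n, ∃ B : Subgroup H, B ≤ A ∧ Xa M B ∧ B ≠ ⊥ ∧ Nat.card B = n := ⟨_, A, le_rfl, hX, h1, rfl⟩
  obtain ⟨B, hBA, hBX, hB1, hBn⟩ := Nat.find_spec hp
  refine ⟨B, hBA, el_mono hA hBA, hBX, hB1, fun C hC hCX => ?_⟩
  by_contra h
  push Not at h
  have h2 : Nat.card C < Nat.card B :=
    lt_of_le_of_ne (Subgroup.card_le_of_le hC) fun e => h.2 (Subgroup.eq_of_le_of_card_ge hC e.ge)
  exact Nat.find_min hp (hBn ▸ h2) ⟨C, hC.trans hBA, hCX, h.1, rfl⟩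

/-- An element commuting with `B` normalises `B`. -/
theorem cj_of_comm {k : H} {B : Subgroup H} (h : ∀ b ∈ B, k * b = b * k) : MulAut.conj k • B = B := by
  have h1 : ∀ b ∈ B, k⁻¹ * b * k = b := fun b hb => by rw [mul_assoc, ← h b hb, ← mul_assoc, inv_mul_cancel, one_mul]
  apply le_antisymm
  · intro y hy
    have h2 := mem_cj.1 hy
    have h3 := h _ h2
    have e : y = k⁻¹ * y * k := by
      have e1 : k * (k⁻¹ * y * k) = y * k := by group
      rw [e1] at h3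
      exact mul_right_cancel h3
    rw [e]; exact h2
  · intro y hy
    rw [mem_cj, h1 y hy]; exact hy

end DAux

open DAux

variable {S : Subgroup H} {PP : Set (Subgroup H)} {W : Subgroup H → AddSubgroup M}

/-- **THEOREM EX, part (d).** -/
theorem exThm [Finite H] (G : Gy M S PP W) (cx : CommX M S) : ExThm M S := by
  classical
  intro U hU hB
  by_contra hcon
  push Not at hcon
  obtain ⟨A₁, hA₁S, hA₁e, hA₁x, hA₁U⟩ := hcon
  have hp : ∃ n, ∃ A : Subgroup H, A ≤ S ∧ El A ∧ Xa M A ∧ ¬ U ≤ fxd A ∧ Nat.card A = n :=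
    ⟨_, A₁, hA₁S, hA₁e, hA₁x, hA₁U, rfl⟩
  obtain ⟨A, hAS, hAe, hAx, hAU, hAn⟩ := Nat.find_spec hp
  have hmin : ∀ B ≤ S, El B → Xa M B → Nat.card B < Nat.card A → U ≤ fxd B := by
    intro B h1 h2 h3 h4
    by_contra h5
    exact Nat.find_min hp (hAn ▸ h4) ⟨B, h1, h2, h3, h5, rfl⟩
  have key : ∀ g : H, MulAut.conj g • A ≤ S → ∀ P ∈ PP, ¬ Fx (W P) (MulAut.conj g • A) →
      ∀ B ≤ S, Mn M B → Fx (W P) B := by
    intro g hg P hP hF B hBS hBm
    have he := hAe.cj g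
    have hx := xa_cj hAx g
    obtain ⟨h1, -⟩ := G.split P hP _ hg he hx hF
    have h2 : cw (W P) (MulAut.conj g • A) ≠ MulAut.conj g • A := fun e => hF (e ▸ fx_cw)
    have h3 : Nat.card ↥(cw (W P) (MulAut.conj g • A)) < Nat.card A := by
      rw [← card_cj g A]
      exact lt_of_le_of_ne (Subgroup.card_le_of_le cw_le) fun e => h2 (Subgroup.eq_of_le_of_card_ge cw_le e.ge)
    have h4 : U ≤ fxd (cw (W P) (MulAut.conj g • A)) := hmin _ (cw_le.trans hg) (el_mono he cw_le) h1 h3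
    have h5 : ¬ U ≤ fxd (MulAut.conj g • A) := by
      intro h
      refine hAU fun u hu => ?_
      have h6 := (fxd_cj g A).1 (h (hU g u hu))
      rwa [inv_smul_smul] at h6
    intro b hb w hw
    exact G.cov P hP _ hg he hx hF U hU h4 h5 b (hBS hb) (fun u hu => mem_fxd.1 (hB B hBS hBm hu) b hb) w hw
  have hA1 : A ≠ ⊥ := by
    rintro rfl
    exact hAU fun u _ => mem_fxd.2 fun a ha => by rw [mem_bot.1 ha, one_smul]
  obtain ⟨B₀, hB₀A, hB₀⟩ := exists_mn hAe hAx hA1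
  have step : ∀ x : H, (∃ P ∈ PP, x ∈ P) → ∀ y : H,
      (∃ g : H, MulAut.conj g • A ≤ S ∧ MulAut.conj g • B₀ = MulAut.conj y • B₀) →
      ∃ g : H, MulAut.conj g • A ≤ S ∧ MulAut.conj g • B₀ = MulAut.conj (x * y) • B₀ := by
    rintro x ⟨P, hP, hx⟩ y ⟨g, hg, e⟩
    by_cases hF : Fx (W P) (MulAut.conj g • A)
    · refine ⟨x * g, ?_, ?_⟩
      · rw [cj_mul]; exact G.PS P hP _ hg hF x hx
      · rw [cj_mul, e, ← cj_mul]
    · have inv : ∀ B ≤ S, Mn M B → ∀ q ∈ P, MulAut.conj q • B ≤ S := fun B hBS hBm q hq =>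
        G.PS P hP B hBS (key g hg P hP hF B hBS hBm) q hq
      obtain ⟨k, hk, hkS⟩ := G.sy P hP _ hg x hx
      have hBg : MulAut.conj g • B₀ ≤ S := (cj_mono g hB₀A).trans hg
      have hB2 : MulAut.conj x • MulAut.conj g • B₀ ≤ S := inv _ hBg (mn_cj hB₀ g) x hx
      have hm2 : Mn M (MulAut.conj x • MulAut.conj g • B₀) := mn_cj (mn_cj hB₀ g) x
      have hk2 : k ∈ centralizer ((MulAut.conj x • MulAut.conj g • B₀ : Subgroup H) : Set H) := by
        refine (closure_le _).2 ?_ hk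
        rintro _ ⟨q, hq, a, ha, rfl⟩
        rw [SetLike.mem_coe, mem_centralizer_iff]
        intro b hb
        have h1 : q⁻¹ * b * q ∈ MulAut.conj q⁻¹ • MulAut.conj x • MulAut.conj g • B₀ := by
          rw [mem_cj, inv_inv]
          have e1 : q * (q⁻¹ * b * q) * q⁻¹ = b := by group
          rw [e1]; exact hb
        have h2 := cx _ hg (hAe.cj g) (xa_cj hAx g) _ (inv _ hB2 hm2 q⁻¹ (inv_mem hq)) (mn_cj hm2 q⁻¹) a ha _ h1
        calc b * (q * a * q⁻¹) = q * ((q⁻¹ * b * q) * a) * q⁻¹ := by group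
          _ = q * (a * (q⁻¹ * b * q)) * q⁻¹ := by rw [h2]
          _ = q * a * q⁻¹ * b := by group
      refine ⟨k * x * g, ?_, ?_⟩
      · rw [cj_mul]; exact hkS
      · rw [cj_mul, cj_mul, cj_of_comm fun b hb => ((mem_centralizer_iff.1 hk2) b hb).symm, e, ← cj_mul]
  have ind : ∀ h : H, ∃ g : H, MulAut.conj g • A ≤ S ∧ MulAut.conj g • B₀ = MulAut.conj h • B₀ := by
    intro h
    have hh : h ∈ closure (⋃ P : PP, ((P : Subgroup H) : Set H)) := by
      rw [← Subgroup.iSup_eq_closure, ← sSup_eq_iSup', G.gen]; exact mem_top _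
    induction hh using closure_induction_left with
    | one => exact ⟨1, by rw [cj_one]; exact hAS, rfl⟩
    | mul_left x hx y hy ih =>
      obtain ⟨P, hxP⟩ := Set.mem_iUnion.1 hx
      exact step x ⟨P, P.2, hxP⟩ y ih
    | inv_mul_cancel x hx y hy ih =>
      obtain ⟨P, hxP⟩ := Set.mem_iUnion.1 hx
      exact step x⁻¹ ⟨P, P.2, inv_mem hxP⟩ y ih
  obtain ⟨h, hS, P, hP, hF⟩ := G.gal B₀ (hB₀A.trans hAS) hB₀.ne
  obtain ⟨g, hg, e⟩ := ind h
  have hF' : ¬ Fx (W P) (MulAut.conj g • A) := fun h1 => hF fun b hb w hw => h1 b (cj_mono g hB₀A (e ▸ hb)) w hw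
  exact hF (key g hg P hP hF' _ hS (mn_cj hB₀ h))

end Cfsg.Agent.Omega.NOThreeL.RRed.Ex

end
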