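import Cfsg.Agent.Mrg.Omega.NOThreeL.RRed.Blk.AsmG
import Cfsg.Agent.Mrg.Omega.NOThreeL.RRed.Ex.Def
import Cfsg.Agent.Mrg.Omega.NOThreeL.RRed.NS.Two
import Cfsg.Agent.Mrg.Omega.NO3S.ThmB.Inst

section


/-!
# NO-3L, box R: THEOREM EX (#26554), the instance `Gy` for `V = zl S L`

* `Gp M S P W` : the fields of `Gy` about one parabolic;
* `exists_pre` : every `A ≤ im Q S` is `im Q B`, `B ≤ S`;
* `WW S L Q` : `im Q P ↦ Q.ad (zl S P)`;
* **`gy_of`** : `Gy` from `Gp` for every `P ∈ P*(S)`, `P ≤ L`.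
-/

set_option autoImplicit false
set_option linter.unusedSectionVars false

namespace Cfsg.Agent.Omega.NOThreeL.RRed.Ex.Inst

open Subgroup Cfsg Cfsg.Agent.ZN Cfsg.Agent.Omega.MinPar
open Cfsg.Agent.Omega.FFThm
open Cfsg.Agent.Omega.NOThreeL.RSplit (Nrm)
open Cfsg.Agent.Omega.NOThreeL.RRed.NS (fxd brk mem_fxd smul_eq_iff conj_eq_cj)
open Cfsg.Agent.Omega.NOThreeL.RRed.Blk.Types (Sit El)
open Cfsg.Agent.Omega.NOThreeL.RRed.Blk.TypesNat (XH ph ph_smul XH_faith ph_eq ph_surj no_XH)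
open Cfsg.Agent.Omega.NOThreeL.RRed.Blk.AsmCore
open Cfsg.Agent.Omega.NOThreeL.RRed.Blk.AsmG (Ps sSup_Ps)
open Cfsg.Agent.ZN.ChoiceBase (cj)
open scoped Pointwise

universe u v

/-- The fields of `Gy` about one parabolic. -/
structure Gp {H : Type u} (M : Type v) [Group H] [AddCommGroup M] [DistribMulAction H M] (S P : Subgroup H)
    (W : AddSubgroup M) : Prop where
  sy : ∀ A ≤ S, ∀ p ∈ P, ∃ k ∈ closure {x | ∃ g ∈ P, ∃ a ∈ A, x = g * a * g⁻¹},
    MulAut.conj (k * p) • A ≤ S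
  split : ∀ A ≤ S, El A → Xa M A → ¬ Fx W A →
    Xa M (cw W A) ∧ ∀ m ∈ (fxd (cw W A) : AddSubgroup M), ∃ w ∈ W, ∃ c ∈ (fxd A : AddSubgroup M), m = w + c
  one : ∀ B ≤ S, Mn M B → ¬ Fx W B → ∀ b ∈ B, b ≠ 1 → ∀ m : M, b • m = m →
    m ∈ (fxd B : AddSubgroup M)
  quad : ∀ B ≤ S, Mn M B → ¬ Fx W B → ∀ B' ≤ S, Mn M B' → brk M B ≤ fxd B'
  out : ∀ B ≤ S, Mn M B → ¬ Fx W B → ∀ b ∈ B, ∀ m : M, b • m ≠ m →
    ∃ p ∈ P, ∃ c ∈ B, (p * c * p⁻¹) • (b • m - m) ∉ (fxd B : AddSubgroup M)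
  pair : ∀ B ≤ S, ∀ B' ≤ S, Mn M B → Mn M B' → ¬ Fx W B → ¬ Fx W B' →
    ∀ b ∈ B, ∀ b' ∈ B', ∀ m m' : M, b • m - m = b' • m' - m' → b • m ≠ m →
      ∀ c ∈ B, ∃ c' ∈ B', ∀ w ∈ W, c' • w = c • w
  sg : ∀ A ≤ S, El A → Xa M A → ¬ Fx W A →
    (∃ X ≤ A, ∃ Y ≤ A, X ≠ A ∧ Y ≠ A ∧ Xa M X ∧ Xa M Y ∧ X ⊔ Y = A) ∨
      (∀ a ∈ A, (¬ ∀ w ∈ W, a • w = w) → ∀ w ∈ W, a • w = w → w ∈ (fxd A : AddSubgroup M))
  cov : ∀ A ≤ S, El A → Xa M A → ¬ Fx W A → ∀ U : AddSubgroup M, (∀ h : H, ∀ u ∈ U, h • u ∈ U) →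
    U ≤ fxd (cw W A) → ¬ U ≤ fxd A → ∀ s ∈ S, (∀ u ∈ U, s • u = u) → ∀ w ∈ W, s • w = w
  wab : ∀ A ≤ S, El A → Xa M A → ∀ B ≤ S, Mn M B → ∀ a ∈ A, ∀ b ∈ B, ∀ w ∈ W,
    a • b • w = b • a • w

variable {G : Type u} [Group G]

section pre

variable {L U : Subgroup G} (Q : Nrm L U)

/-- every subgroup of `im Q S` is the image of a subgroup of `S` -/
theorem exists_pre {S : Subgroup G} {A : Subgroup (XH Q)} (h : A ≤ im Q S) : ∃ B ≤ S, B ≤ L ∧ im Q B = A := by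
  refine ⟨S ⊓ (A.comap (ph Q)).map L.subtype, inf_le_left, ?_, ?_⟩
  · rintro _ ⟨-, y, -, rfl⟩
    exact y.2
  · ext x
    constructor
    · rintro ⟨a, ⟨-, y, hy, h1⟩, rfl⟩
      obtain rfl : y = a := Subtype.ext h1
      exact hy
    · intro hx
      obtain ⟨a, ha, rfl⟩ := h hx
      exact ⟨a, ⟨ha, a, hx, rfl⟩, rfl⟩

/-- `im Q A` centralises `Q.ad X` iff `A` centralises `U ⊓ X` -/
theorem fx_ad_iff {A X : Subgroup G} (hA : A ≤ L) (hX : X ≤ U) :
    Fx (Q.ad X) (im Q A) ↔ A ≤ centralizer (X : Set G) := by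
  unfold Fx
  rw [im_smul]
  constructor
  · intro h a ha
    rw [mem_centralizer_iff]
    intro x hx
    have h1 := h a ha (hA ha) (Q.of x (hX hx)) hx
    rw [Nrm.val_of, mul_inv_eq_iff_eq_mul] at h1
    exact h1.symm
  · intro h a ha _ m hm
    rw [mul_inv_eq_iff_eq_mul]
    exact (mem_centralizer_iff.1 (h ha) _ hm).symm

end pre

open Classical in
/-- `im Q P ↦ V_P` -/
noncomputable def WW (S L : Subgroup G) {U : Subgroup G} (Q : Nrm L U) (K : Subgroup (XH Q)) : AddSubgroup Q.Mod :=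
  if h : ∃ P, IsParS S P ∧ P ≤ L ∧ K = im Q P then Q.ad (zl S h.choose) else ⊥

theorem exists_WW {S L U : Subgroup G} {Q : Nrm L U} {K : Subgroup (XH Q)} (hK : K ∈ Ps S L Q) :
    ∃ P, IsParS S P ∧ P ≤ L ∧ K = im Q P ∧ WW S L Q K = Q.ad (zl S P) := by
  have h : ∃ P, IsParS S P ∧ P ≤ L ∧ K = im Q P := hK
  refine ⟨h.choose, h.choose_spec.1, h.choose_spec.2.1, h.choose_spec.2.2, ?_⟩
  unfold WW
  rw [dif_pos h]

theorem zl_le_of_im {S L U P P' : Subgroup G} (Q : Nrm L U) (hU : zc S ≤ U) (hP : P ≤ L) (h : im Q P ≤ im Q P') :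
    zl S P ≤ zl S P' := by
  refine iSup_le fun g => ?_
  rintro _ ⟨z, hz, rfl⟩
  obtain ⟨p, hp, h1⟩ := h (ph_mem_im Q (a := ⟨g, hP g.2⟩) g.2)
  have h2 := (ph_eq Q).1 h1 (Q.of z (hU hz))
  have h3 := congrArg Q.val h2
  rw [Nrm.val_smul, Nrm.val_smul, Nrm.val_of] at h3
  have h4 := (mem_normalizer_iff.1 (MinSimple.VModule.le_normalizer_zl S P' hp) z).1
    (MinSimple.VModule.zc_le_zl S P' hz)
  change (p : G) * z * (p : G)⁻¹ ∈ _ at h4
  rw [h3] at h4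
  exact h4

theorem WW_im {S L U P : Subgroup G} (Q : Nrm L U) (hU : zc S ≤ U) (hP : IsParS S P) (hPL : P ≤ L) :
    WW S L Q (im Q P) = Q.ad (zl S P) := by
  obtain ⟨P', -, hPL', h1, h2⟩ := exists_WW (S := S) (L := L) (Q := Q) (K := im Q P) ⟨P, hP, hPL, rfl⟩
  rw [h2, le_antisymm (zl_le_of_im (S := S) Q hU hPL' h1.ge) (zl_le_of_im (S := S) Q hU hPL h1.le)]

section gy

variable [Finite G] {S : Sylow 2 G} {L : Subgroup G} (Q : Nrm L (zl (S : Subgroup G) L))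

/-- **the instance** -/
theorem gy_of (hc : IsCharacteristicTwoType G) (hSL : (S : Subgroup G) ≤ L) (hL : IsLoc (S : Subgroup G) L)
    (gen : L ≤ sSup {P | IsParS (S : Subgroup G) P ∧ P ≤ L})
    (el : IsElementaryAbelian 2 (zl (S : Subgroup G) L)) (no : NoOverM (zl (S : Subgroup G) L) L)
    (h : ∀ P, IsParS (S : Subgroup G) P → P ≤ L →
      Gp Q.Mod (im Q (S : Subgroup G)) (im Q P) (Q.ad (zl (S : Subgroup G) P))) :
    Gy Q.Mod (im Q (S : Subgroup G)) (Ps (S : Subgroup G) L Q) (WW (S : Subgroup G) L Q) where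
  sit :=
    { faith := fun x _ hx => XH_faith Q x hx
      ch := fun m => Nrm.ext (by
        rw [Nrm.val_add, Nrm.val_zero]
        have := el.2 _ (Q.val_mem m)
        rwa [pow_two] at this)
      no := fun F _ h1 h2 => by
        have h3 := no_XH Q no F (fun x hx y hy => h2 x hx y hy) (fun x hx => h1 x hx)
        have h4 := AddSubgroup.card_mul_index (fxd F : AddSubgroup Q.Mod)
        rw [← h4, mul_comm]
        exact Nat.mul_le_mul_left _ h3 }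
  gen := sSup_Ps Q gen
  SP := by
    rintro _ ⟨P, hP, -, rfl⟩
    exact im_mono Q hP.le
  WP := by
    intro K hK
    obtain ⟨P, hP, hPL, rfl, h1⟩ := exists_WW hK
    rw [h1]
    rintro _ ⟨p, hp, rfl⟩ w hw
    rw [ph_smul]
    refine Nrm.mem_ad.2 ?_
    rw [Nrm.val_smul]
    exact (mem_normalizer_iff.1 (MinSimple.VModule.le_normalizer_zl (S : Subgroup G) P hp) _).1 hw
  PS := by
    intro K hK
    obtain ⟨P, hP, hPL, rfl, h1⟩ := exists_WW hK
    rw [h1]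
    intro A hA hfx
    obtain ⟨B, hBS, hBL, rfl⟩ := exists_pre Q hA
    rintro _ ⟨p, hp, rfl⟩
    rw [fx_ad_iff Q hBL (NOThreeL.Star.zl_mono _ hPL)] at hfx
    have h2 : B ≤ o2 P := by
      rw [← hP.inf_centralizer S hc]
      exact le_inf hBS hfx
    rw [← im_cj]
    refine im_mono Q ?_
    have h3 : MulAut.conj (p : G) • B ≤ o2 P := by
      intro x hx
      have h4 := h2 (NS.mem_conj.1 hx)
      have h5 : (p : G) ∈ normalizer (o2 P : Set G) := le_normalizer_o2 P hp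
      have h6 := (mem_normalizer_iff.1 h5 _).1 h4
      have e : (p : G) * ((p : G)⁻¹ * x * p) * (p : G)⁻¹ = x := by group
      rwa [e] at h6
    exact h3.trans hP.isLoc.o2_le
  gal := by
    intro A hA hne
    obtain ⟨B, hBS, hBL, rfl⟩ := exists_pre Q hA
    have h1 : ¬ B ≤ centralizer (zl (S : Subgroup G) L : Set G) := by
      intro h2
      apply hne
      rw [eq_bot_iff]
      rintro _ ⟨b, hb, rfl⟩
      rw [Subgroup.mem_bot]
      exact MonoidHom.mem_ker.1 ((Blk.TypesNat.mem_ker Q).2 (h2 hb))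
    obtain ⟨m, hm, P, hP, hPL, hmS, hmP⟩ := VF.gallery hc S hL gen hBL (S.isPGroup'.to_le hBS) h1
    have h3 : im Q P ∈ Ps (S : Subgroup G) L Q := ⟨P, hP, hPL, rfl⟩
    refine ⟨ph Q ⟨m, hm⟩, ?_, ?_⟩
    · have h4 : im Q (MulAut.conj m • B) ≤ im Q (S : Subgroup G) := im_mono Q (by rwa [conj_eq_cj])
      have h5 := im_cj Q (A := B) ⟨m, hm⟩
      rwa [h5] at h4
    · refine ⟨_, h3, ?_⟩
      rw [WW_im Q (MinSimple.VModule.zc_le_zl _ _) hP hPL, ← im_cj, fx_ad_iff Q _ (NOThreeL.Star.zl_mono _ hPL)]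
      · rwa [← conj_eq_cj] at hmP
      · change MulAut.conj m • B ≤ L
        rw [conj_eq_cj]
        exact hmS.trans hSL
  sy := by
    intro K hK
    obtain ⟨P, hP, hPL, rfl, h1⟩ := exists_WW hK
    exact (h P hP hPL).sy
  split := by
    intro K hK
    obtain ⟨P, hP, hPL, rfl, h1⟩ := exists_WW hK
    rw [h1]
    exact (h P hP hPL).split
  one := by
    intro K hK
    obtain ⟨P, hP, hPL, rfl, h1⟩ := exists_WW hK
    rw [h1]
    exact (h P hP hPL).one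
  quad := by
    intro K hK
    obtain ⟨P, hP, hPL, rfl, h1⟩ := exists_WW hK
    rw [h1]
    exact (h P hP hPL).quad
  out := by
    intro K hK
    obtain ⟨P, hP, hPL, rfl, h1⟩ := exists_WW hK
    rw [h1]
    exact (h P hP hPL).out
  pair := by
    intro K hK
    obtain ⟨P, hP, hPL, rfl, h1⟩ := exists_WW hK
    rw [h1]
    exact (h P hP hPL).pair
  sg := by
    intro K hK
    obtain ⟨P, hP, hPL, rfl, h1⟩ := exists_WW hK
    rw [h1]
    exact (h P hP hPL).sg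
  cov := by
    intro K hK
    obtain ⟨P, hP, hPL, rfl, h1⟩ := exists_WW hK
    rw [h1]
    exact (h P hP hPL).cov
  wab := by
    intro K hK
    obtain ⟨P, hP, hPL, rfl, h1⟩ := exists_WW hK
    rw [h1]
    exact (h P hP hPL).wab

end gy

end Cfsg.Agent.Omega.NOThreeL.RRed.Ex.Inst

end

section


/-!
# NO-3L, box R: THEOREM EX (#27096), the instance of `Gy`: the fields `sy` and `split` (text: helper245)

`Q : Nrm L U`, `H := XH Q`, `M := Q.Mod`, `S := im Q S`, `im Q P` for `P ∈ P*(S)`, `P ≤ L`.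

* `exists_im` : the subgroups of `im Q S` are the `im Q A`, `A ≤ S`;
* `sy_grp`, **`sy`** : `A ≤ S ≤ P`, `p ∈ P`: `A^(kp) ≤ S` for some `k ∈ ⟨A^P⟩` (Frattini);
* `cw_im` : `C_{im A}(W) = im (C_A(W))` for `W ≤ U`;
* `exa_of`, `xa_of` : exactness in the two languages;
* **`split`** : `A ≤ S` exact on `U = zl S L`, moving `V_P`: `C_A(V_P)` is exact, `C_U(C_A(V_P)) = V_P C_U(A)`.
-/

set_option autoImplicit false
set_option linter.unusedSectionVars false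

namespace Cfsg.Agent.Omega.NOThreeL.RRed.Ex.InstB

open Subgroup Cfsg Cfsg.Agent.ZN Cfsg.Agent.Omega.MinPar
open Cfsg.Agent.Omega.FFThm
open Cfsg.Agent.Omega.NOThreeL.RSplit (Nrm)
open Cfsg.Agent.Omega.NOThreeL.RRed.NS (fxd brk mem_fxd smul_eq_iff)
open Cfsg.Agent.Omega.NOThreeL.RRed.Blk.Split (ncl mem_ncl le_ncl norm_ncl ncl_le)
open Cfsg.Agent.Omega.NOThreeL.RRed.Blk.TypesNat (XH ph ph_smul mem_ker)
open Cfsg.Agent.Omega.NOThreeL.RRed.Blk.AsmCore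
open Cfsg.Agent.Omega.NOThreeL.RRed.Blk.Types (El)
open scoped Pointwise

universe u

variable {G : Type u} [Group G]

section basic

variable {L U : Subgroup G} (Q : Nrm L U)

/-- the subgroups of `im Q S` are images of subgroups of `S` -/
theorem exists_im {S : Subgroup G} {A' : Subgroup (XH Q)} (h : A' ≤ im Q S) : ∃ A ≤ S, im Q A = A' := by
  refine ⟨(A'.comap (ph Q)).map L.subtype ⊓ S, inf_le_right, ?_⟩
  ext x
  rw [mem_im]
  constructor
  · rintro ⟨a, ⟨⟨b, hb, hba⟩, -⟩, rfl⟩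
    have h1 : b = a := Subtype.ext hba
    exact h1 ▸ hb
  · intro hx
    obtain ⟨s, hs, rfl⟩ := h hx
    exact ⟨s, ⟨⟨s, hx, rfl⟩, hs⟩, rfl⟩

theorem im_ncl_le {P A : Subgroup G} (hP : P ≤ L) (hA : A ≤ L) :
    im Q (ncl P A) ≤ closure {x | ∃ g ∈ im Q P, ∃ a ∈ im Q A, x = g * a * g⁻¹} := by
  apply im_le_of
  unfold ncl
  rw [closure_le]
  rintro _ ⟨g, hg, a, ha, rfl⟩
  refine ⟨⟨g, hP hg⟩ * ⟨a, hA ha⟩ * ⟨g, hP hg⟩⁻¹, ?_, rfl⟩
  rw [SetLike.mem_coe, mem_comap, map_mul, map_mul, map_inv]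
  exact subset_closure ⟨_, ph_mem_im Q hg, _, ph_mem_im Q ha, rfl⟩

/-- `C_{im A}(W) = im (C_A(W))`, `W ≤ U` -/
theorem cw_im {W A : Subgroup G} (hW : W ≤ U) : cw (Q.ad W) (im Q A) = im Q (A ⊓ centralizer (W : Set G)) := by
  ext x
  rw [mem_cw, mem_im, mem_im]
  constructor
  · rintro ⟨⟨a, ha, rfl⟩, h⟩
    refine ⟨a, mem_inf.2 ⟨ha, mem_centralizer_iff.2 fun w hw => ?_⟩, rfl⟩
    have h1 := h (Q.of w (hW hw)) hw
    rw [ph_smul, smul_eq_iff, Nrm.val_of, mul_inv_eq_iff_eq_mul] at h1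
    exact h1.symm
  · rintro ⟨a, ha, rfl⟩
    refine ⟨⟨a, (mem_inf.1 ha).1, rfl⟩, fun w hw => ?_⟩
    rw [ph_smul, smul_eq_iff, mul_inv_eq_iff_eq_mul]
    exact (mem_centralizer_iff.1 (mem_inf.1 ha).2 _ hw).symm

theorem fx_im {W A : Subgroup G} (hW : W ≤ U) (hA : A ≤ L) :
    Fx (Q.ad W) (im Q A) ↔ A ≤ centralizer (W : Set G) := by
  constructor
  · intro h a ha
    rw [mem_centralizer_iff]
    intro w hw
    have h1 := h _ (ph_mem_im Q (a := ⟨a, hA ha⟩) ha) (Q.of w (hW hw)) hw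
    rw [ph_smul, smul_eq_iff, Nrm.val_of, mul_inv_eq_iff_eq_mul] at h1
    exact h1.symm
  · rintro h _ ⟨a, ha, rfl⟩ w hw
    rw [ph_smul, smul_eq_iff, mul_inv_eq_iff_eq_mul]
    exact (mem_centralizer_iff.1 (h ha) _ hw).symm

theorem elemM_of {A : Subgroup G} (hA : A ≤ L) (h : El (im Q A)) : ElemM U A where
  sq a ha := by
    have h1 := h.sq _ (ph_mem_im Q (a := ⟨a, hA ha⟩) ha)
    rw [← map_mul] at h1
    have h2 := (mem_ker Q).1 (MonoidHom.mem_ker.2 h1)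
    rw [pow_two]
    exact h2
  comm a ha b hb := by
    have h1 := h.cm _ (ph_mem_im Q (a := ⟨a, hA ha⟩) ha) _ (ph_mem_im Q (a := ⟨b, hA hb⟩) hb)
    have h3 : ph Q (⟨a, hA ha⟩ * ⟨b, hA hb⟩ * ⟨a, hA ha⟩⁻¹ * ⟨b, hA hb⟩⁻¹) = 1 := by
      rw [map_mul, map_mul, map_mul, map_inv, map_inv, h1]
      group
    exact (mem_ker Q).1 (MonoidHom.mem_ker.2 h3)

theorem card_mod : Nat.card Q.Mod = Nat.card U := rfl

theorem card_fxd_im [Finite G] {A : Subgroup G} (hA : A ≤ L) :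
    Nat.card (fxd (im Q A) : AddSubgroup Q.Mod) = Nat.card ↥(U ⊓ centralizer (A : Set G)) := by
  have h1 : (fxd (im Q A) : AddSubgroup Q.Mod) = Q.ad (U ⊓ centralizer (A : Set G)) := by
    ext m
    rw [fxd_im Q hA, Nrm.mem_ad, mem_inf]
    exact (and_iff_right (Q.val_mem m)).symm
  rw [h1, Nrm.card_ad inf_le_left]

theorem xa_of [Finite G] {A : Subgroup G} (hA : A ≤ L) (h : Exa U A) : Xa Q.Mod (im Q A) := by
  unfold Xa
  unfold Exa at h
  rw [card_fxd_im Q hA, card_mod]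
  rw [← card_im Q hA] at h
  refine Nat.le_of_mul_le_mul_right ?_ (Nat.card_pos : 0 < Nat.card ↥(A ⊓ centralizer (U : Set G)))
  rw [h]
  exact le_of_eq (by ring)

theorem exa_of [Finite G] {A : Subgroup G} (hA : A ≤ L) (hno : NoOverM U L) (hE : ElemM U A) (h : Xa Q.Mod (im Q A)) :
    Exa U A := by
  unfold Xa at h
  unfold Exa
  rw [card_fxd_im Q hA, card_mod] at h
  refine le_antisymm ?_ (hno A hA hE)
  calc Nat.card U * Nat.card ↥(A ⊓ centralizer (U : Set G))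
      ≤ Nat.card (im Q A) * Nat.card ↥(U ⊓ centralizer (A : Set G)) * Nat.card ↥(A ⊓ centralizer (U : Set G)) :=
        Nat.mul_le_mul_right _ h
    _ = Nat.card (im Q A) * Nat.card ↥(A ⊓ centralizer (U : Set G)) * Nat.card ↥(U ⊓ centralizer (A : Set G)) := by
        ring
    _ = Nat.card A * Nat.card ↥(U ⊓ centralizer (A : Set G)) := by rw [card_im Q hA]

end basic

/-! ### `sy` -/

/-- Frattini in `P` for `⟨A^P⟩` -/
theorem sy_grp [Finite G] {S P A : Subgroup G} (hSP : S ≤ P) (hS : IsPGroup 2 S) (hd : ¬ 2 ∣ S.relIndex P)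
    (hA : A ≤ S) {p : G} (hp : p ∈ P) : ∃ k ∈ ncl P A, MulAut.conj (k * p) • A ≤ S := by
  have h1 := MinSimple.Basic.frattini hSP hS hd (norm_ncl (P := P) (A := A)) hp
  have h2 : p ∈ ((ncl P A ⊔ (P ⊓ normalizer ((S ⊓ ncl P A : Subgroup G) : Set G)) : Subgroup G) : Set G) := h1
  rw [coe_mul_of_right_le_normalizer_left _ _ (inf_le_left.trans norm_ncl)] at h2
  obtain ⟨k, hk, n, hn, rfl⟩ := h2
  refine ⟨k⁻¹, inv_mem hk, ?_⟩
  dsimp only
  have e : k⁻¹ * (k * n) = n := by group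
  rw [e]
  intro x hx
  rw [NS.mem_conj] at hx
  have h3 : n⁻¹ * x * n ∈ S ⊓ ncl P A := ⟨hA hx, le_ncl hx⟩
  have h4 := (mem_normalizer_iff.1 hn.2 _).1 h3
  have e2 : n * (n⁻¹ * x * n) * n⁻¹ = x := by group
  rw [e2] at h4
  exact h4.1

/-- **the field `sy`** -/
theorem sy [Finite G] (S : Sylow 2 G) {L U P : Subgroup G} (Q : Nrm L U) (hSP : (S : Subgroup G) ≤ P) (hPL : P ≤ L) :
    ∀ A ≤ im Q (S : Subgroup G), ∀ p ∈ im Q P,
      ∃ k ∈ closure {x | ∃ g ∈ im Q P, ∃ a ∈ A, x = g * a * g⁻¹}, MulAut.conj (k * p) • A ≤ im Q (S : Subgroup G) := by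
  intro A' hA' p' hp'
  obtain ⟨A, hA, rfl⟩ := exists_im Q hA'
  obtain ⟨p, hp, rfl⟩ := hp'
  have hAP : A ≤ P := hA.trans hSP
  obtain ⟨k, hk, h1⟩ := sy_grp hSP S.isPGroup' (MinSimple.Basic.not_dvd_relIndex S hSP) hA
    (show (p : G) ∈ P from hp)
  have hkL : k ∈ L := hPL (ncl_le hAP hk)
  refine ⟨ph Q ⟨k, hkL⟩, im_ncl_le Q hPL (hAP.trans hPL) (ph_mem_im Q hk), ?_⟩
  rw [← map_mul, ← im_cj]
  exact im_mono Q h1

/-! ### `split` -/

/-- **the field `split`** -/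
theorem split [Finite G] (hc : IsCharacteristicTwoType G) {S : Sylow 2 G} {L P : Subgroup G}
    (Q : Nrm L (zl (S : Subgroup G) L)) (hP : IsParS (S : Subgroup G) P) (hPL : P ≤ L)
    (hno : NoOverM (zl (S : Subgroup G) L) L) :
    ∀ A ≤ im Q (S : Subgroup G), El A → Xa Q.Mod A → ¬ Fx (Q.ad (zl (S : Subgroup G) P)) A →
      Xa Q.Mod (cw (Q.ad (zl (S : Subgroup G) P)) A) ∧
      ∀ m ∈ (fxd (cw (Q.ad (zl (S : Subgroup G) P)) A) : AddSubgroup Q.Mod),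
        ∃ w ∈ Q.ad (zl (S : Subgroup G) P), ∃ c ∈ (fxd A : AddSubgroup Q.Mod), m = w + c := by
  intro A' hA' hE hX hF
  obtain ⟨A, hA, rfl⟩ := exists_im Q hA'
  have hAL : A ≤ L := (hA.trans hP.le).trans hPL
  have hWU : zl (S : Subgroup G) P ≤ zl (S : Subgroup G) L := NOThreeL.Star.zl_mono _ hPL
  have hcomm : zl (S : Subgroup G) L ≤ centralizer (zl (S : Subgroup G) L : Set G) := fun x hx =>
    mem_centralizer_iff.2 fun y hy => Q.ab y hy x hx
  have hEM := elemM_of Q hAL hE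
  have hex := exa_of Q hAL hno hEM hX
  have hne : ¬ A ≤ centralizer (zl (S : Subgroup G) P : Set G) := fun h => hF ((fx_im Q hWU hAL).2 h)
  obtain ⟨h1, -, -, -, h2⟩ := exact_split hc hP hPL hno hcomm hA hEM hex hne
  have hFL : A ⊓ centralizer (zl (S : Subgroup G) P : Set G) ≤ L := inf_le_left.trans hAL
  rw [cw_im Q hWU]
  refine ⟨xa_of Q hFL h1, fun m hm => ?_⟩
  rw [fxd_im Q hFL] at hm
  have h3 : Q.val m ∈ zl (S : Subgroup G) P ⊔ (zl (S : Subgroup G) L ⊓ centralizer (A : Set G)) := by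
    rw [← h2]
    exact mem_inf.2 ⟨Q.val_mem m, hm⟩
  have h4 : Q.val m ∈ ((zl (S : Subgroup G) P ⊔ (zl (S : Subgroup G) L ⊓ centralizer (A : Set G)) : Subgroup G) :
      Set G) := h3
  rw [coe_mul_of_left_le_normalizer_right _ _ ((hWU.trans hcomm).trans
    ((centralizer_le inf_le_left).trans (centralizer_le_normalizer _)))] at h4
  obtain ⟨w, hw, c, hc', h5⟩ := h4
  refine ⟨Q.of w (hWU hw), hw, Q.of c (mem_inf.1 hc').1, ?_, ?_⟩
  · rw [fxd_im Q hAL]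
    exact (mem_inf.1 hc').2
  · exact Nrm.ext (by rw [Nrm.val_add]; exact h5.symm)

end Cfsg.Agent.Omega.NOThreeL.RRed.Ex.InstB

end

section


/-!
# NO-3L, box R: THEOREM EX (#26554), the field `cov`

`A ≤ S` exact on `V = zl S L`, moving `V_P`, `F = C_A(V_P)`; `U ≤ V` is normalised by `P`, centralised by `F`, not by `A`.
Then `U ∩ V_P` covers `V_P / C_{V_P}(O²(P))`, so `V_P ≤ U Z`: an `s ∈ S` which centralises `U` centralises `V_P`.
-/

set_option autoImplicit false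
set_option linter.unusedSectionVars false

namespace Cfsg.Agent.Omega.NOThreeL.RRed.Ex.Cov

open Subgroup Cfsg Cfsg.Agent.ZN Cfsg.Agent.Omega.MinPar
open Cfsg.Agent.Omega.FFThm
open Cfsg.Agent.Omega.FrameFF (cv)
open Cfsg.Agent.Omega.NOThreeL.RSplit (Nrm)
open Cfsg.Agent.Omega.NOThreeL.RRed.NS (fxd brk mem_fxd smul_eq_iff conj_eq_cj)
open Cfsg.Agent.Omega.NOThreeL.RRed.Blk.Types (El)
open Cfsg.Agent.Omega.NOThreeL.RRed.Blk.TypesNat (XH ph ph_smul ph_surj)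
open Cfsg.Agent.Omega.NOThreeL.RRed.Blk.AsmCore
open Cfsg.Agent.MinSimple.VModule (oddGen)
open scoped Pointwise

universe u

variable {G : Type u} [Group G]

theorem norm_of {X T : Subgroup G} (h : ∀ g ∈ X, ∀ x ∈ T, g * x * g⁻¹ ∈ T) : X ≤ normalizer (T : Set G) := by
  intro g hg
  rw [mem_normalizer_iff]
  refine fun x => ⟨h g hg x, fun hx => ?_⟩
  have h1 := h g⁻¹ (inv_mem hg) _ hx
  have e : g⁻¹ * (g * x * g⁻¹) * g⁻¹⁻¹ = x := by group
  rwa [e] at h1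

variable [Finite G] {S : Sylow 2 G} {L P A : Subgroup G}

/-- `W ≤ V_P` normalised by `P`, `W ≰ cv`: `V_P = W cv` -/
theorem cover (hP : IsParS (S : Subgroup G) P) (hc : ConclM (S : Subgroup G) P)
    {W : Subgroup G} (hW : W ≤ zl (S : Subgroup G) P) (hPW : P ≤ normalizer (W : Set G))
    (hWD : ¬ W ≤ cv (S : Subgroup G) P) :
    ∀ v ∈ zl (S : Subgroup G) P, ∃ w ∈ W, w⁻¹ * v ∈ cv (S : Subgroup G) P := by
  have hSP := hP.le
  intro v hv
  rcases hc with ⟨F, _, _, _, k, hk, ⟨M⟩⟩ | ⟨k, m, hk, hm, ⟨M⟩⟩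
  · obtain ⟨w, hw, he⟩ := cover_nat M.toNatK hSP hW hPW hWD (M.e v)
    refine ⟨w, hw, (M.ker _ (mul_mem (inv_mem (hW hw)) hv)).1 ?_⟩
    have h1 := M.mul w (hW hw) (w⁻¹ * v) (mul_mem (inv_mem (hW hw)) hv)
    rw [mul_inv_cancel_left, he] at h1
    exact left_eq_add.1 h1
  · obtain ⟨w, hw, he⟩ := cover_sym M.toSymK hSP (by omega) hW hPW hWD hv
    refine ⟨w, hw, (M.ker _ (mul_mem (inv_mem (hW hw)) hv)).1 ?_⟩
    have h1 := M.mul w (hW hw) (w⁻¹ * v) (mul_mem (inv_mem (hW hw)) hv)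
    rw [mul_inv_cancel_left, he] at h1
    exact left_eq_add.1 h1

/-- an offender centralises `cv` -/
theorem cv_le (hc : ConclM (S : Subgroup G) P) (hA : A ≤ (S : Subgroup G)) (hoff : OffM (zl (S : Subgroup G) P) A) :
    cv (S : Subgroup G) P ≤ centralizer (A : Set G) := by
  intro d hd
  rw [mem_centralizer_iff]
  intro a ha
  rcases hc with ⟨F, _, _, _, k, hk, ⟨M⟩⟩ | ⟨k, m, hk, hm, ⟨M⟩⟩
  · obtain ⟨I, hI1, -⟩ := M.offM A hA hoff
    obtain ⟨b, -, hb⟩ := hI1 a ha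
    exact hb.2 d hd
  · exact (M.offM A hA hoff).1 a ha d hd

/-- `V_P ≤ W Z` -/
theorem zl_le_sup (hP : IsParS (S : Subgroup G) P) (hc : ConclM (S : Subgroup G) P)
    {W : Subgroup G} (hW : W ≤ zl (S : Subgroup G) P) (hPW : P ≤ normalizer (W : Set G))
    (hWD : ¬ W ≤ cv (S : Subgroup G) P) : zl (S : Subgroup G) P ≤ W ⊔ zc (S : Subgroup G) := by
  have hcov := cover hP hc hW hPW hWD
  have hZ := MinSimple.VModule.zc_le_zl (S : Subgroup G) P
  have key : ∀ g, g ∈ P → (∀ z ∈ zc (S : Subgroup G), g * z * g⁻¹ ∈ W ⊔ zc (S : Subgroup G)) →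
      ∀ x ∈ W ⊔ zc (S : Subgroup G), g * x * g⁻¹ ∈ W ⊔ zc (S : Subgroup G) := by
    intro g hg hz
    have h1 : W ⊔ zc (S : Subgroup G) ≤ (W ⊔ zc (S : Subgroup G)).comap (MulAut.conj g).toMonoidHom := by
      refine sup_le (fun w hw => ?_) fun z hz' => hz z hz'
      exact mem_sup_left ((mem_normalizer_iff.1 (hPW hg) w).1 hw)
    exact fun x hx => h1 hx
  refine MinSimple.VModule.zl_le le_sup_right ?_
  conv_lhs => rw [← NoFF.LinesPlug.oddGen_sup hP.le (MinSimple.Basic.not_dvd_relIndex S hP.le)]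
  refine sup_le ?_ ?_
  · refine norm_of fun g hg => key g (MinSimple.VModule.oddGen_le P hg) fun z hz => ?_
    obtain ⟨w, hw, hd⟩ := hcov z (hZ hz)
    have h2 : g * (w⁻¹ * z) = w⁻¹ * z * g := mem_centralizer_iff.1 hd.2 g hg
    have e : g * z * g⁻¹ = (g * w * g⁻¹) * (w⁻¹ * z) := by
      calc g * z * g⁻¹ = g * w * (w⁻¹ * z) * g⁻¹ := by group
        _ = g * w * g⁻¹ * (g * (w⁻¹ * z)) * g⁻¹ := by group
        _ = _ := by rw [h2]; group
    rw [e]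
    have h3 := (mem_normalizer_iff.1 (hPW (MinSimple.VModule.oddGen_le P hg)) w).1 hw
    exact mul_mem (mem_sup_left h3) (mul_mem (mem_sup_left (inv_mem hw)) (mem_sup_right hz))
  · refine norm_of fun g hg => key g (hP.le hg) fun z hz => ?_
    have h2 : g * z = z * g := (MinSimple.VModule.mem_zc.1 hz).2.1 g hg
    rw [h2, mul_inv_cancel_right]
    exact mem_sup_right hz

/-- **`cov`**, group form -/
theorem cov_g (hc : IsCharacteristicTwoType G) (hP : IsParS (S : Subgroup G) P) (hPL : P ≤ L)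
    (hno : NoOverM (zl (S : Subgroup G) L) L)
    (hcomm : zl (S : Subgroup G) L ≤ centralizer (zl (S : Subgroup G) L : Set G))
    (hA : A ≤ (S : Subgroup G)) (hE : ElemM (zl (S : Subgroup G) L) A)
    (hex : Exa (zl (S : Subgroup G) L) A) (hne : ¬ A ≤ centralizer (zl (S : Subgroup G) P : Set G))
    {U : Subgroup G} (hU : U ≤ zl (S : Subgroup G) L) (hPU : P ≤ normalizer (U : Set G))
    (hF : U ≤ centralizer ((A ⊓ centralizer (zl (S : Subgroup G) P : Set G) : Subgroup G) : Set G))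
    (hUA : ¬ U ≤ centralizer (A : Set G)) {s : G} (hs : s ∈ (S : Subgroup G)) (hsU : s ∈ centralizer (U : Set G)) :
    s ∈ centralizer (zl (S : Subgroup G) P : Set G) := by
  obtain ⟨-, -, hoff, hconcl, hspl⟩ := exact_split hc hP hPL hno hcomm hA hE hex hne
  have hn : P ≤ normalizer (zl (S : Subgroup G) P : Set G) := MinSimple.VModule.le_normalizer_zl _ _
  have hPW : P ≤ normalizer ((U ⊓ zl (S : Subgroup G) P : Subgroup G) : Set G) :=
    (le_inf hPU hn).trans (Subgroup.inf_normalizer_le_normalizer_inf)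
  have hVU : zl (S : Subgroup G) P ≤ zl (S : Subgroup G) L := Star.zl_mono _ hPL
  have hWD : ¬ U ⊓ zl (S : Subgroup G) P ≤ cv (S : Subgroup G) P := by
    intro h
    rcases par_dich hc hP hconcl hA hoff (inf_le_right : U ⊓ zl (S : Subgroup G) P ≤ _) hPW with h1 | h1
    · apply hoff.ne
      rw [le_centralizer_iff]
      exact h1.trans (sup_le (h.trans (cv_le hconcl hA hoff)) inf_le_right)
    · apply hUA
      intro u hu
      have h2 : u ∈ zl (S : Subgroup G) L ⊓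
          centralizer ((A ⊓ centralizer (zl (S : Subgroup G) P : Set G) : Subgroup G) : Set G) := ⟨hU hu, hF hu⟩
      rw [hspl] at h2
      have hcm : ∀ x ∈ zl (S : Subgroup G) P, ∀ y ∈ zl (S : Subgroup G) L ⊓ centralizer (A : Set G),
          x * y = y * x := fun x hx y hy => (mem_centralizer_iff.1 (hcomm (hVU hx)) y hy.1).symm
      obtain ⟨v, hv, w, hw, rfl⟩ := F4.Split.mem_sup_comm hcm h2
      have hvA : ∀ a ∈ A, a * v = v * a := by
        refine h1 v hv fun a ha => ?_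
        have haP := hP.le (hA ha)
        have haw : a * w = w * a := mem_centralizer_iff.1 hw.2 a ha
        have e : a * (v * w) * a⁻¹ * (v * w)⁻¹ = a * v * a⁻¹ * v⁻¹ := by
          calc a * (v * w) * a⁻¹ * (v * w)⁻¹ = a * v * a⁻¹ * (a * w) * a⁻¹ * w⁻¹ * v⁻¹ := by group
            _ = a * v * a⁻¹ * v⁻¹ := by rw [haw]; group
        refine mem_inf.2 ⟨?_, mul_mem (conj_div hn haP hv) (inv_mem hv)⟩
        rw [← e]
        exact mul_mem (conj_div hPU haP hu) (inv_mem hu)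
      rw [mem_centralizer_iff]
      intro a ha
      have haw : a * w = w * a := mem_centralizer_iff.1 hw.2 a ha
      rw [← mul_assoc, hvA a ha, mul_assoc, haw, mul_assoc]
  have h3 := zl_le_sup hP hconcl inf_le_right hPW hWD
  have h4 : zl (S : Subgroup G) P ≤ centralizer ({s} : Set G) := by
    refine h3.trans (sup_le (fun w hw => ?_) fun z hz => ?_)
    · rw [mem_centralizer_singleton_iff]
      exact mem_centralizer_iff.1 hsU w hw.1
    · rw [mem_centralizer_singleton_iff]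
      exact ((MinSimple.VModule.mem_zc.1 hz).2.1 s hs).symm
  rw [mem_centralizer_iff]
  intro v hv
  exact mem_centralizer_singleton_iff.1 (h4 hv)

/-- the subgroup of a submodule -/
def gr {L U : Subgroup G} (Q : Nrm L U) (N : AddSubgroup Q.Mod) : Subgroup G where
  carrier := {x | ∃ m ∈ N, Q.val m = x}
  mul_mem' := by
    rintro _ _ ⟨m, hm, rfl⟩ ⟨m', hm', rfl⟩
    exact ⟨m + m', add_mem hm hm', Nrm.val_add m m'⟩
  one_mem' := ⟨0, zero_mem _, Nrm.val_zero⟩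
  inv_mem' := by
    rintro _ ⟨m, hm, rfl⟩
    exact ⟨-m, neg_mem hm, Nrm.val_neg m⟩

/-- **the field `cov`** -/
theorem cov (hc : IsCharacteristicTwoType G) (Q : Nrm L (zl (S : Subgroup G) L)) (hP : IsParS (S : Subgroup G) P)
    (hPL : P ≤ L) (hno : NoOverM (zl (S : Subgroup G) L) L) :
    ∀ A ≤ im Q (S : Subgroup G), El A → Xa Q.Mod A → ¬ Fx (Q.ad (zl (S : Subgroup G) P)) A →
      ∀ U : AddSubgroup Q.Mod, (∀ h : XH Q, ∀ u ∈ U, h • u ∈ U) →
      U ≤ fxd (cw (Q.ad (zl (S : Subgroup G) P)) A) → ¬ U ≤ fxd A → ∀ s ∈ im Q (S : Subgroup G),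
        (∀ u ∈ U, s • u = u) → ∀ w ∈ Q.ad (zl (S : Subgroup G) P), s • w = w := by
  intro A' hA' hE hX hF N hN hNF hNA s' hs' hsN w hw
  obtain ⟨A, hA, rfl⟩ := InstB.exists_im Q hA'
  obtain ⟨s, hs, rfl⟩ := hs'
  have hAL : A ≤ L := (hA.trans hP.le).trans hPL
  have hWU : zl (S : Subgroup G) P ≤ zl (S : Subgroup G) L := NOThreeL.Star.zl_mono _ hPL
  have hcomm : zl (S : Subgroup G) L ≤ centralizer (zl (S : Subgroup G) L : Set G) := fun x hx =>
    mem_centralizer_iff.2 fun y hy => Q.ab y hy x hx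
  have hEM := InstB.elemM_of Q hAL hE
  have hex := InstB.exa_of Q hAL hno hEM hX
  have hne : ¬ A ≤ centralizer (zl (S : Subgroup G) P : Set G) := fun h => hF ((InstB.fx_im Q hWU hAL).2 h)
  have hFL : A ⊓ centralizer (zl (S : Subgroup G) P : Set G) ≤ L := inf_le_left.trans hAL
  rw [InstB.cw_im Q hWU] at hNF
  have hsV : (s : G) ∈ centralizer (zl (S : Subgroup G) P : Set G) := by
    refine cov_g hc hP hPL hno hcomm hA hEM hex hne (U := gr Q N) ?_ ?_ ?_ ?_ hs ?_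
    · rintro _ ⟨m, -, rfl⟩
      exact Q.val_mem m
    · refine norm_of ?_
      rintro g hg _ ⟨m, hm, rfl⟩
      refine ⟨ph Q ⟨g, hPL hg⟩ • m, hN _ m hm, ?_⟩
      rw [ph_smul, Nrm.val_smul]
    · rintro _ ⟨m, hm, rfl⟩
      exact (fxd_im Q hFL).1 (hNF hm)
    · intro h
      apply hNA
      intro m hm
      exact (fxd_im Q hAL).2 (h ⟨m, hm, rfl⟩)
    · rw [mem_centralizer_iff]
      rintro _ ⟨m, hm, rfl⟩
      have h1 := hsN m hm
      rw [ph_smul, smul_eq_iff, mul_inv_eq_iff_eq_mul] at h1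
      exact h1.symm
  rw [ph_smul, smul_eq_iff, mul_inv_eq_iff_eq_mul]
  exact (mem_centralizer_iff.1 hsV _ hw).symm

end Cfsg.Agent.Omega.NOThreeL.RRed.Ex.Cov

end

section


/-!
# NO-3L, box R: THEOREM EX (#26554), the field `wab` (text: helper245)

Two offenders of `S` on `V_P` commute on `V_P`: products of root elements of `S`, resp. of transpositions of `S`.

* `nat_swap`, `sym_swap`, **`off_swap`** : the group form;
* **`wab`** : the field `wab` for one `P`.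
-/

set_option autoImplicit false
set_option linter.unusedSectionVars false

namespace Cfsg.Agent.Omega.NOThreeL.RRed.Ex.Wab

open Subgroup Cfsg Cfsg.Agent.ZN Cfsg.Agent.Omega.MinPar
open Cfsg.Agent.Omega.FFThm Cfsg.Agent.Lib.SL2Mat
open Cfsg.Agent.Omega.FrameFF (cv)
open Cfsg.Agent.Omega.NO3S.ThmB Cfsg.Agent.Omega.NO3S.ThmB.Sb
open Cfsg.Agent.Omega.NOThreeL.RSplit (Nrm)
open Cfsg.Agent.Omega.NOThreeL.RRed.NS (fxd brk mem_fxd smul_eq_iff conj_eq_cj keep' off_elem')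
open Cfsg.Agent.Omega.NOThreeL.RRed.Blk.Types (Sit El)
open Cfsg.Agent.Omega.NOThreeL.RRed.Blk.TypesNat (XH ph ph_smul XH_faith ph_eq ph_surj no_XH)
open Cfsg.Agent.Omega.NOThreeL.RRed.Blk.AsmCore (im mem_im ph_mem_im im_mono im_cj)
open Cfsg.Agent.Omega.NOThreeL.RRed.Ex.InstB (exists_im elemM_of exa_of fx_im)
open scoped Pointwise

universe u

variable {G : Type u} [Group G]

/-- natural blocks -/
theorem nat_swap {F : Type} [Field F] {S P V D : Subgroup G} {k : ℕ} {M : NatKM F S P V D k} (h : Nb M)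
    {A B : Subgroup G} (hA : A ≤ S) (hB : B ≤ S) (oA : OffM V A) (oB : OffM V B) {a b v : G} (ha : a ∈ A) (hb : b ∈ B)
    (hv : v ∈ V) : a * (b * v * b⁻¹) * a⁻¹ = b * (a * v * a⁻¹) * b⁻¹ := by
  obtain ⟨I, h1, -⟩ := M.offM A hA oA
  obtain ⟨J, h2, -⟩ := M.offM B hB oB
  obtain ⟨x, -, hx⟩ := h1 a ha
  obtain ⟨y, -, hy⟩ := h2 b hb
  exact h.swap (h.SP' (hA ha)) (h.SP' (hB hb)) hx hy (h.up_comm x y) hv

/-- blocks of letters -/
theorem sym_swap [Finite G] {S P V D : Subgroup G} {k m : ℕ} {M : SymKM S P V D k m} (h : Sb M)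
    {A B : Subgroup G} (hA : A ≤ S) (hB : B ≤ S) (oA : OffM V A) (oB : OffM V B) {a b v : G} (ha : a ∈ A) (hb : b ∈ B)
    (hv : v ∈ V) : a * (b * v * b⁻¹) * a⁻¹ = b * (a * v * a⁻¹) * b⁻¹ := by
  obtain ⟨τ, hτ, -, hτ'⟩ := off_elem' hA oA ha
  obtain ⟨σ, hσ, -, hσ'⟩ := off_elem' hB oB hb
  refine h.swap (h.SP' (hA ha)) (h.SP' (hB hb)) hτ hσ ?_ hv
  funext i
  ext1 x
  rw [Pi.mul_apply, Pi.mul_apply, Equiv.Perm.mul_apply, Equiv.Perm.mul_apply]
  by_cases hx : τ i x = x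
  · by_cases hx' : σ i x = x
    · rw [hx, hx', hx]
    · obtain ⟨-, c, hc, hcA⟩ := hσ' i x hx'
      rcases keep' h hA hτ' (hB hc) (Ne.symm hx') hcA.1 with ⟨-, h2⟩ | ⟨h1, -⟩
      · rw [hx, h2]
      · exact absurd (h1.symm.trans hx) hx'
  · obtain ⟨h0, c, hc, hcA⟩ := hτ' i x hx
    rcases keep' h hB hσ' (hA hc) (Ne.symm hx) hcA.1 with ⟨h1, h2⟩ | ⟨h1, h2⟩
    · rw [h1, h2]
    · rw [h1, h2, h0]

/-- **Two offenders of `S` on `V_P` commute on `V_P`.** -/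
theorem off_swap [Finite G] (hc : IsCharacteristicTwoType G) {S : Sylow 2 G} {P : Subgroup G}
    (hP : IsParS (S : Subgroup G) P) (cl : ConclM (S : Subgroup G) P) {A B : Subgroup G} (hA : A ≤ (S : Subgroup G))
    (hB : B ≤ (S : Subgroup G)) (oA : OffM (zl (S : Subgroup G) P) A) (oB : OffM (zl (S : Subgroup G) P) B) {a b v : G}
    (ha : a ∈ A) (hb : b ∈ B) (hv : v ∈ zl (S : Subgroup G) P) :
    a * (b * v * b⁻¹) * a⁻¹ = b * (a * v * a⁻¹) * b⁻¹ := by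
  rcases cl with ⟨F, i1, i2, i3, k, -, ⟨M⟩⟩ | ⟨k, m, -, hm, ⟨M⟩⟩
  · exact nat_swap (NO3S.ThmB.Inst.nb hc hP M) hA hB oA oB ha hb hv
  · exact sym_swap (NO3S.ThmB.Inst.sb hc hP hm M) hA hB oA oB ha hb hv

/-- one of the two acts trivially -/
theorem triv_swap {S P A : Subgroup G} (hA : A ≤ centralizer (zl S P : Set G)) {a b v : G}
    (ha : a ∈ A) (hb : b ∈ P) (hv : v ∈ zl S P) : a * (b * v * b⁻¹) * a⁻¹ = b * (a * v * a⁻¹) * b⁻¹ := by
  have h1 : ∀ w ∈ zl S P, a * w * a⁻¹ = w := fun w hw => by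
    rw [← mem_centralizer_iff.1 (hA ha) w hw, mul_inv_cancel_right]
  rw [h1 v hv, h1 _ ((mem_normalizer_iff.1 (MinSimple.VModule.le_normalizer_zl S P hb) v).1 hv)]

/-- **the field `wab`** -/
theorem wab [Finite G] (hc : IsCharacteristicTwoType G) {S : Sylow 2 G} {L P : Subgroup G}
    (Q : Nrm L (zl (S : Subgroup G) L)) (hP : IsParS (S : Subgroup G) P) (hPL : P ≤ L)
    (hno : NoOverM (zl (S : Subgroup G) L) L) :
    ∀ A ≤ im Q (S : Subgroup G), El A → Xa Q.Mod A → ∀ B ≤ im Q (S : Subgroup G), Mn Q.Mod B →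
      ∀ a ∈ A, ∀ b ∈ B, ∀ w ∈ Q.ad (zl (S : Subgroup G) P), a • b • w = b • a • w := by
  intro A' hA' hE hX B' hB' hM
  obtain ⟨A, hA, rfl⟩ := exists_im Q hA'
  obtain ⟨B, hB, rfl⟩ := exists_im Q hB'
  have hAL : A ≤ L := (hA.trans hP.le).trans hPL
  have hBL : B ≤ L := (hB.trans hP.le).trans hPL
  have hcomm : zl (S : Subgroup G) L ≤ centralizer (zl (S : Subgroup G) L : Set G) := fun x hx =>
    mem_centralizer_iff.2 fun y hy => Q.ab y hy x hx
  have hEA := elemM_of Q hAL hE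
  have hxA := exa_of Q hAL hno hEA hX
  have hEB := elemM_of Q hBL hM.el
  have hxB := exa_of Q hBL hno hEB hM.ex
  rintro _ ⟨a, ha, rfl⟩ _ ⟨b, hb, rfl⟩ w hw
  refine Nrm.ext ?_
  rw [ph_smul, ph_smul, ph_smul, ph_smul, Nrm.val_smul, Nrm.val_smul, Nrm.val_smul, Nrm.val_smul]
  by_cases h1 : A ≤ centralizer (zl (S : Subgroup G) P : Set G)
  · exact triv_swap h1 ha (hP.le (hB hb)) hw
  by_cases h2 : B ≤ centralizer (zl (S : Subgroup G) P : Set G)
  · exact (triv_swap h2 hb (hP.le (hA ha)) hw).symm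
  obtain ⟨-, -, oA, cl, -⟩ := exact_split hc hP hPL hno hcomm hA hEA hxA h1
  obtain ⟨-, -, oB, -, -⟩ := exact_split hc hP hPL hno hcomm hB hEB hxB h2
  exact off_swap hc hP cl hA hB oA oB ha hb hw

end Cfsg.Agent.Omega.NOThreeL.RRed.Ex.Wab

end
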