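import Cfsg.Agent.Mrg.Omega.NOThreeL.RRed.NS.Act
import Cfsg.Agent.Mrg.Omega.NOThreeL.RRed.NS.Two
import Cfsg.Agent.Mrg.Omega.NOThreeL.RRed.NS.Blk
import Cfsg.Agent.Mrg.Omega.NO3S.ThmB.Inst

section


/-!
# NO-3L, box R: THEOREM EX (#26554): the facts about one parabolic, in the group `G` (text: helper245)

`V = zl S P`, `U = zl S L`. `Pf S P V U` : the fields `one`, `quad`, `out`, `pair`, `sg`, `wab` of `Ex.Gy` for `P`.
-/

set_option autoImplicit false
set_option linter.unusedSectionVars false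

namespace Cfsg.Agent.Omega.NOThreeL.RRed.Ex

open Subgroup
open Cfsg.Agent.Omega.FFThm (ElemM OffM)
open Cfsg.Agent.Omega.NOThreeL.RRed.NS (Tt)

universe u

variable {G : Type u} [Group G]

/-- The facts about one parabolic. -/
structure Pf (S P V U : Subgroup G) : Prop where
  one : ∀ B ≤ S, Tt U B → ¬ B ≤ centralizer (V : Set G) → ∀ b ∈ B, b ∉ centralizer (U : Set G) → ∀ u ∈ U,
    b * u = u * b → ∀ c ∈ B, c * u = u * c
  quad : ∀ B ≤ S, Tt U B → ¬ B ≤ centralizer (V : Set G) → ∀ B' ≤ S, Tt U B' → ∀ b ∈ B, ∀ u ∈ U, ∀ c ∈ B',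
    c * (b * u * b⁻¹ * u⁻¹) = b * u * b⁻¹ * u⁻¹ * c
  out : ∀ B ≤ S, Tt U B → ¬ B ≤ centralizer (V : Set G) → ∀ b ∈ B, ∀ u ∈ U, b * u ≠ u * b →
    ∃ p ∈ P, ∃ c ∈ B, ∃ d ∈ B, d * (p * c * p⁻¹ * (b * u * b⁻¹ * u⁻¹) * (p * c * p⁻¹)⁻¹) ≠
      p * c * p⁻¹ * (b * u * b⁻¹ * u⁻¹) * (p * c * p⁻¹)⁻¹ * d
  pair : ∀ B ≤ S, ∀ B' ≤ S, Tt U B → Tt U B' → ¬ B ≤ centralizer (V : Set G) → ¬ B' ≤ centralizer (V : Set G) →
    ∀ b ∈ B, ∀ b' ∈ B', ∀ u ∈ U, ∀ u' ∈ U, b * u * b⁻¹ * u⁻¹ = b' * u' * b'⁻¹ * u'⁻¹ → b * u ≠ u * b →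
      ∀ c ∈ B, ∃ c' ∈ B', ∀ v ∈ V, c' * v * c'⁻¹ = c * v * c⁻¹
  sg : ∀ A ≤ S, OffM V A →
    (∃ X ≤ A, ∃ Y ≤ A, A ⊓ centralizer (U : Set G) ≤ X ∧ A ⊓ centralizer (U : Set G) ≤ Y ∧ X ≠ A ∧ Y ≠ A ∧
      Nat.card A * Nat.card ↥(U ⊓ centralizer (A : Set G)) ≤ Nat.card X * Nat.card ↥(U ⊓ centralizer (X : Set G)) ∧
      Nat.card A * Nat.card ↥(U ⊓ centralizer (A : Set G)) ≤ Nat.card Y * Nat.card ↥(U ⊓ centralizer (Y : Set G)) ∧
      A ≤ X ⊔ Y) ∨
      (∀ a ∈ A, a ∉ centralizer (V : Set G) → ∀ v ∈ V, a * v = v * a → ∀ c ∈ A, c * v = v * c)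
  wab : ∀ A ≤ S, OffM V A → ∀ B ≤ S, Tt U B → ¬ B ≤ centralizer (V : Set G) → ∀ a ∈ A, ∀ b ∈ B, ∀ v ∈ V,
    a * (b * v * b⁻¹) * a⁻¹ = b * (a * v * a⁻¹) * b⁻¹

end Cfsg.Agent.Omega.NOThreeL.RRed.Ex

end

section


/-!
# NO-3L, box R: THEOREM EX (#26554): the facts about one parabolic, natural type (text: helper245)

* **`pf_nat`** : `Pf S P V U` for natural `P`.
-/

set_option autoImplicit false
set_option linter.unusedSectionVars false

namespace Cfsg.Agent.Omega.NOThreeL.RRed.Ex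

open Subgroup Cfsg Cfsg.Agent.ZN Cfsg.Agent.ZN.ChoiceBase
open Cfsg.Agent.Omega.FFThm Cfsg.Agent.Omega.NatPair Cfsg.Agent.Lib.SL2Mat
open Cfsg.Agent.Omega.NO3S.ThmB Cfsg.Agent.Omega.NO3S.KeyRad
open Cfsg.Agent.Omega.NOThreeL.RRed.NS

universe u

variable {G : Type u} [Group G] [Finite G] {F : Type} [Field F] [Finite F] [CharP F 2] {S P V D U A : Subgroup G} {k : ℕ}
  {M : NatKM F S P V D k} (h : Nb M)

section one

variable {i : Fin k} (O : One M U A i) (hVU : V ≤ U) (hAS : A ≤ S)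
include h O hVU hAS

/-- an element of `A` which does not centralise `U` has a parameter `≠ 0` -/
theorem nat_ne {a : G} (ha : a ∈ A) {β : F} (hβ : ActsSL M.e V D a (sg i (up β))) {u : G} (hu : u ∈ U)
    (hau : a * u ≠ u * a) : β ≠ 0 := by
  intro h0
  apply hau
  rw [h0, up_zero, sg_one] at hβ
  obtain ⟨v, hv, -, c, -, hca, rfl⟩ := O.full u hu
  have h1 := h.comm_of_one (h.SP' (hAS ha)) hβ hv
  exact ((show Commute a v from h1).mul_right (hca a ha)).eq

/-- `C_U(a) = C_U(A)` -/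
theorem nat_one {a : G} (ha : a ∈ A) (hac : a ∉ centralizer (U : Set G)) {u : G} (hu : u ∈ U) (hau : a * u = u * a)
    {c : G} (hc : c ∈ A) : c * u = u * c := by
  obtain ⟨β, hβ⟩ := O.act a ha
  obtain ⟨u', hu', hne⟩ : ∃ u' ∈ U, a * u' ≠ u' * a := by
    by_contra hcon
    push Not at hcon
    exact hac (mem_centralizer_iff.2 fun x hx => (hcon x hx).symm)
  have hb0 := nat_ne h O hVU hAS ha hβ hu' hne
  obtain ⟨v, hv, -, c', -, hca, rfl⟩ := O.full u hu
  have h1 : a * v = v * a := by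
    have h2 : Commute a (v * c') := hau
    have h3 := h2.mul_right ((show Commute a c' from hca a ha).inv_right)
    rw [mul_inv_cancel_right] at h3
    exact h3
  have h2 : M.e v i 1 = 0 := by
    have h3 := hβ.1 v hv i
    have e : a * v * a⁻¹ = v := by rw [h1]; group
    rw [e, sg_self] at h3
    have h4 := congrFun h3 0
    rw [ap_up_0] at h4
    have h5 : β * M.e v i 1 = 0 := left_eq_add.1 h4
    exact (mul_eq_zero.1 h5).resolve_left hb0
  exact ((show Commute c v from (O.cen v hv).2 h2 c hc).mul_right (hca c hc)).eq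

/-- the coordinates of `[a, u]` -/
theorem nat_comm {a : G} (ha : a ∈ A) {u : G} (hu : u ∈ U) (hau : a * u ≠ u * a) :
    a * u * a⁻¹ * u⁻¹ ∈ V ∧ (∀ l, l ≠ i → M.e (a * u * a⁻¹ * u⁻¹) l = 0) ∧ M.e (a * u * a⁻¹ * u⁻¹) i 1 = 0 ∧
      M.e (a * u * a⁻¹ * u⁻¹) i 0 ≠ 0 := by
  obtain ⟨β, hβ⟩ := O.act a ha
  have hb0 := nat_ne h O hVU hAS ha hβ hu hau
  obtain ⟨v, hv, hvl, c', -, hca, rfl⟩ := O.full u hu
  have haP := h.SP' (hAS ha)
  have e : a * (v * c') * a⁻¹ * (v * c')⁻¹ = a * v * a⁻¹ * v⁻¹ := by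
    have h1 := hca a ha
    calc a * (v * c') * a⁻¹ * (v * c')⁻¹ = a * v * a⁻¹ * (a * c') * a⁻¹ * c'⁻¹ * v⁻¹ := by group
      _ = a * v * a⁻¹ * v⁻¹ := by rw [h1]; group
  rw [e]
  have hm := h.memV haP hv
  have e0 : M.e (a * v * a⁻¹ * v⁻¹) = M.e (a * v * a⁻¹) + M.e v := h.e_div hm hv
  have hv1 : M.e v i 1 ≠ 0 := fun h0 => hau (by
    exact ((show Commute a v from (O.cen v hv).2 h0 a ha).mul_right (hca a ha)).eq)
  refine ⟨mul_mem hm (inv_mem hv), fun l hl => ?_, ?_, ?_⟩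
  · rw [e0, Pi.add_apply, hβ.1 v hv l, sg_ne hl, ap_one, hvl l hl, add_zero]
  · rw [e0, Pi.add_apply, Pi.add_apply, hβ.1 v hv i, sg_self, ap_up_1]
    exact CharTwo.add_self_eq_zero _
  · rw [e0, Pi.add_apply, Pi.add_apply, hβ.1 v hv i, sg_self, ap_up_0]
    have e1 : M.e v i 0 + β * M.e v i 1 + M.e v i 0 = β * M.e v i 1 := by
      rw [add_comm, ← add_assoc, CharTwo.add_self_eq_zero, zero_add]
    rw [e1]
    exact mul_ne_zero hb0 hv1

theorem nat_out {a : G} (ha : a ∈ A) {u : G} (hu : u ∈ U) (hau : a * u ≠ u * a) :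
    ∃ p ∈ P, ∃ c ∈ A, ∃ d ∈ A, d * (p * c * p⁻¹ * (a * u * a⁻¹ * u⁻¹) * (p * c * p⁻¹)⁻¹) ≠
      p * c * p⁻¹ * (a * u * a⁻¹ * u⁻¹) * (p * c * p⁻¹)⁻¹ * d := by
  obtain ⟨hxV, -, -, hx0⟩ := nat_comm h O hVU hAS ha hu hau
  set x := a * u * a⁻¹ * u⁻¹ with hx
  obtain ⟨p, hp, hpA⟩ := exists_p M i
  obtain ⟨c, hc, hcA⟩ := O.all 1
  have h1 := acts_conj_of h hp hpA (h.SP' (hAS hc)) hcA
  by_contra hcon
  push Not at hcon
  have h2 := hcon p hp c hc
  have hgP : p * c * p⁻¹ ∈ P := mul_mem (mul_mem hp (h.SP' (hAS hc))) (inv_mem hp)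
  have h3 := (O.cen _ (h.memV hgP hxV)).1 h2
  rw [h1.1 x hxV i, sg_self, ap_lo_1] at h3
  obtain ⟨-, -, hx1, -⟩ := nat_comm h O hVU hAS ha hu hau
  rw [← hx] at hx1
  rw [hx1, add_zero] at h3
  rcases mul_eq_zero.1 h3 with h4 | h4
  · exact one_ne_zero (neg_eq_zero.1 h4)
  · exact hx0 h4

end one

section sg

variable (hVU : V ≤ U) (hAS : A ≤ S)
include h hVU hAS

/-- **the cut** (copy of `Tt.one`) -/
theorem nat_cut {I : Set (Fin k)} (hI1 : ∀ a ∈ A, ∃ b : Fin k → F, (∀ i, i ∉ I → b i = 0) ∧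
      ActsSL M.e V D a fun i => up (b i))
    (hI2 : ∀ b : Fin k → F, (∀ i, i ∉ I → b i = 0) → ∃ a ∈ A, ActsSL M.e V D a fun i => up (b i))
    {i : Fin k} (hi : i ∈ I) : ∃ B ≤ A, A ⊓ centralizer (U : Set G) ≤ B ∧ B ≠ A ∧
      Nat.card A * Nat.card ↥(U ⊓ centralizer (A : Set G)) ≤ Nat.card B * Nat.card ↥(U ⊓ centralizer (B : Set G)) ∧
      ∀ a ∈ A, ∀ b : Fin k → F, ActsSL M.e V D a (fun l => up (b l)) → (a ∈ B ↔ b i = 0) := by
  classical
  have hAP : A ≤ P := hAS.trans h.SP'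
  have hsg : ∀ l ∈ I, ∀ β, ∃ a ∈ A, ActsSL M.e V D a (sg l (up β)) := fun l hl β => by
    obtain ⟨a, ha, hab⟩ := hI2 (Function.update 0 l β) fun j hj => by
      rw [Function.update_of_ne (fun e => hj (by rw [e]; exact hl))]
      rfl
    refine ⟨a, ha, ?_⟩
    have e : (fun j => up (Function.update (0 : Fin k → F) l β j)) = sg l (up β) := by
      funext j
      by_cases hj : j = l
      · rw [hj, Function.update_self, sg_self]
      · rw [Function.update_of_ne hj, sg_ne hj, Pi.zero_apply, up_zero]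
    rwa [e] at hab
  have hcen : ∀ v ∈ V, (∀ a ∈ A, a * v = v * a) → M.e v i 1 = 0 := fun v hv hc => by
    obtain ⟨a, ha, hab⟩ := hsg i hi 1
    have h1 := hab.1 v hv i
    rw [sg_self] at h1
    have h2 : a * v * a⁻¹ = v := by rw [hc a ha]; group
    have h3 := congrFun h1 0
    rw [h2, ap_up_0, one_mul] at h3
    exact left_eq_add.1 h3
  obtain ⟨w0, hw0, hw0i, hw0l⟩ := Nb.exists_single M i ![0, 1]
  let B := Nb.Ai M A hAP h.VP' i
  have hBA : B ≤ A := fun a ha => ha.1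
  have hent : ∀ a ∈ A, ∃ b : Fin k → F, (∀ l, l ∉ I → b l = 0) ∧ ActsSL M.e V D a (fun l => up (b l)) ∧
      M.e (a * w0 * a⁻¹) i 0 = b i := fun a ha => by
    obtain ⟨b, hb, hab⟩ := hI1 a ha
    exact ⟨b, hb, hab, h.up_entry hab hw0 hw0i⟩
  have hBb : ∀ a ∈ A, ∀ b : Fin k → F, ActsSL M.e V D a (fun l => up (b l)) → (a ∈ B ↔ b i = 0) := by
    intro a ha b hab
    constructor
    · intro haB
      have h1 := haB.2 w0 hw0
      have h2 := h.up_entry hab hw0 hw0i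
      rw [h1, hw0i] at h2
      exact h2.symm
    · intro h0
      refine ⟨ha, fun v hv => ?_⟩
      have h1 := hab.1 v hv i
      simp only [h0, up_zero, ap_one] at h1
      exact h1
  have h1B : A ⊓ centralizer (U : Set G) ≤ B := fun a ha => by
    refine ⟨ha.1, fun v hv => ?_⟩
    have h1 : a * v * a⁻¹ = v := by
      rw [← (mem_centralizer_iff.1 ha.2 v (hVU hv))]
      group
    rw [h1]
  have hBne : B ≠ A := fun e => by
    obtain ⟨a, ha, hab⟩ := hsg i hi 1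
    have haB : a ∈ B := by rw [e]; exact ha
    have h1 := haB.2 w0 hw0
    have h2 := hab.1 w0 hw0 i
    rw [h1, sg_self, hw0i] at h2
    have h3 := congrFun h2 0
    rw [ap_up_0] at h3
    simp at h3
  have hBV : ∀ a ∈ B, ∀ v ∈ V, (∀ l, l ≠ i → M.e v l = 0) → a * v = v * a := by
    intro a ha v hv hvl
    obtain ⟨b, hb, hab⟩ := hI1 a ha.1
    have h0 := (hBb a ha.1 b hab).1 ha
    exact h.dir (hAP ha.1) hab (by simp only [h0, up_zero]) hv hvl
  have hcA : Nat.card A ≤ Nat.card F * Nat.card B := by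
    refine card_le_of_map (fun a => M.e (a * w0 * a⁻¹) i 0) fun a ha a' ha' he => ?_
    obtain ⟨b, hb, hab, hbi⟩ := hent a ha
    obtain ⟨b', hb', hab', hbi'⟩ := hent a' ha'
    have h1 : b i = b' i := by rw [← hbi, ← hbi']; exact he
    have h2 := h.acts_mul (hAP ha') (h.acts_inv (hAP ha) hab) hab'
    have e : ((fun l => up (b l))⁻¹ * fun l => up (b' l)) = fun l => up (-(b l) + b' l) := by
      funext l
      rw [Pi.mul_apply, Pi.inv_apply, up_inv, up_mul]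
    rw [e] at h2
    exact (hBb _ (mul_mem (inv_mem ha) ha') _ h2).2 (by rw [h1, neg_add_cancel])
  have hw : ∀ x : F, ∃ w ∈ V, M.e w i = ![0, x] ∧ ∀ l, l ≠ i → M.e w l = 0 := fun x => Nb.exists_single M i _
  choose w hwV hwi hwl using hw
  have hinj : ∀ x c y d, c ∈ U → (∀ a ∈ A, a * c = c * a) → d ∈ U → (∀ a ∈ A, a * d = d * a) →
      w x * c = w y * d → x = y ∧ c = d := by
    intro x c y d hc hca hd hda e
    have h1 : (w y)⁻¹ * w x = d * c⁻¹ := by
      calc (w y)⁻¹ * w x = (w y)⁻¹ * (w x * c) * c⁻¹ := by group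
        _ = (w y)⁻¹ * (w y * d) * c⁻¹ := by rw [e]
        _ = d * c⁻¹ := by group
    have h2 := hcen _ (mul_mem (inv_mem (hwV y)) (hwV x)) (fun a ha => by
      rw [h1]
      exact (show Commute a d from hda a ha).mul_right ((show Commute a c from hca a ha).inv_right))
    rw [M.mul _ (inv_mem (hwV y)) _ (hwV x), h.e_inv (hwV y), Pi.add_apply, Pi.add_apply, hwi, hwi] at h2
    simp only [Matrix.cons_val_one, Matrix.cons_val_zero] at h2
    have h3 : x = y := by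
      rw [add_comm] at h2
      exact CharTwo.add_eq_zero.1 h2
    refine ⟨h3, ?_⟩
    rw [h3] at e
    exact mul_left_cancel e
  have hcU : Nat.card F * Nat.card ↥(U ⊓ centralizer (A : Set G)) ≤ Nat.card ↥(U ⊓ centralizer (B : Set G)) := by
    rw [← Nat.card_prod]
    refine Nat.card_le_card_of_injective
      (fun p : F × ↥(U ⊓ centralizer (A : Set G)) =>
        (⟨w p.1 * p.2, mul_mem ?_ ?_⟩ : ↥(U ⊓ centralizer (B : Set G)))) fun p q e => ?_
    · exact ⟨hVU (hwV _), mem_centralizer_iff.2 fun a ha => hBV a ha _ (hwV _) (hwl _)⟩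
    · exact ⟨p.2.2.1, mem_centralizer_iff.2 fun a ha => mem_centralizer_iff.1 p.2.2.2 a (hBA ha)⟩
    · have h1 := hinj p.1 p.2 q.1 q.2 p.2.2.1 (mem_centralizer_iff.1 p.2.2.2) q.2.2.1
        (mem_centralizer_iff.1 q.2.2.2) (congrArg Subtype.val e)
      exact Prod.ext h1.1 (Subtype.ext h1.2)
  refine ⟨B, hBA, h1B, hBne, ?_, hBb⟩
  calc Nat.card A * Nat.card ↥(U ⊓ centralizer (A : Set G)) ≤
      Nat.card F * Nat.card B * Nat.card ↥(U ⊓ centralizer (A : Set G)) := Nat.mul_le_mul_right _ hcA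
    _ = Nat.card B * (Nat.card F * Nat.card ↥(U ⊓ centralizer (A : Set G))) := by ring
    _ ≤ _ := Nat.mul_le_mul_left _ hcU

omit hVU in
/-- `A` acts as the root group of one block: `Tt V A` -/
theorem nat_tt (hoff : OffM V A) {i : Fin k} (hI : ∀ a ∈ A, ∃ b : Fin k → F, (∀ l, l ≠ i → b l = 0) ∧
      ActsSL M.e V D a fun i => up (b i)) : Tt V A where
  elem := hoff.toElemM
  ne := hoff.ne
  off := hoff.le
  min B h1 h2 h3 h4 := by
    by_contra hcon
    rw [not_lt] at hcon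
    apply h3
    have hAP : A ≤ P := hAS.trans h.SP'
    have hoB : OffM V B := by
      refine ⟨⟨fun a ha => hoff.sq a (h2 ha), fun a ha b hb => hoff.comm a (h2 ha) b (h2 hb)⟩, h4, ?_⟩
      have h5 : Nat.card ↥(B ⊓ centralizer (V : Set G)) ≤ Nat.card ↥(A ⊓ centralizer (V : Set G)) :=
        Subgroup.card_le_of_le (inf_le_inf_right _ h2)
      exact ((Nat.mul_le_mul_left _ h5).trans hoff.le).trans hcon
    obtain ⟨J, hJ1, hJ2⟩ := M.offM B (h2.trans hAS) hoB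
    -- `i ∈ J`
    have hiJ : i ∈ J := by
      by_contra hi
      apply h4
      intro b hb
      rw [mem_centralizer_iff]
      intro v hv
      obtain ⟨f, hf, hfb⟩ := hJ1 b hb
      obtain ⟨f', hf', hfb'⟩ := hI b (h2 hb)
      have key : ∀ l, f l = 0 := by
        intro l
        by_cases hl : l = i
        · rw [hl]; exact hf i hi
        · obtain ⟨w, hw, hwl, -⟩ := Nb.exists_single M l ![0, 1]
          rw [← h.up_entry hfb hw hwl, h.up_entry hfb' hw hwl]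
          exact hf' l hl
      have e : (fun l => up (f l)) = (1 : Fin k → Matrix.SpecialLinearGroup (Fin 2) F) := by
        funext l
        rw [key l, up_zero]
        rfl
      rw [e] at hfb
      exact (h.comm_of_one (hAP (h2 hb)) hfb hv).symm
    apply le_antisymm h2
    intro a ha
    obtain ⟨f, hf, hfa⟩ := hI a ha
    obtain ⟨b, hb, hfb⟩ := hJ2 f fun l hl => hf l fun e => hl (e ▸ hiJ)
    have h5 : b⁻¹ * a ∈ A ⊓ centralizer (V : Set G) := by
      refine mem_inf.2 ⟨mul_mem (inv_mem (h2 hb)) ha, mem_centralizer_iff.2 fun v hv => ?_⟩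
      have h6 := h.same (hAP ha) (hAP (h2 hb)) hfa hfb hv
      calc v * (b⁻¹ * a) = b⁻¹ * (b * v * b⁻¹) * a := by group
        _ = b⁻¹ * (a * v * a⁻¹) * a := by rw [h6]
        _ = b⁻¹ * a * v := by group
    have e : a = b * (b⁻¹ * a) := by group
    rw [e]
    exact mul_mem hb (h1 h5)

theorem nat_sg (hV2 : IsElementaryAbelian 2 V) (hoff : OffM V A) :
    (∃ X ≤ A, ∃ Y ≤ A, A ⊓ centralizer (U : Set G) ≤ X ∧ A ⊓ centralizer (U : Set G) ≤ Y ∧ X ≠ A ∧ Y ≠ A ∧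
      Nat.card A * Nat.card ↥(U ⊓ centralizer (A : Set G)) ≤ Nat.card X * Nat.card ↥(U ⊓ centralizer (X : Set G)) ∧
      Nat.card A * Nat.card ↥(U ⊓ centralizer (A : Set G)) ≤ Nat.card Y * Nat.card ↥(U ⊓ centralizer (Y : Set G)) ∧
      A ≤ X ⊔ Y) ∨
      (∀ a ∈ A, a ∉ centralizer (V : Set G) → ∀ v ∈ V, a * v = v * a → ∀ c ∈ A, c * v = v * c) := by
  classical
  have hAP : A ≤ P := hAS.trans h.SP'
  obtain ⟨I, hI1, hI2⟩ := M.offM A hAS hoff
  by_cases hI : ∃ i ∈ I, ∃ j ∈ I, i ≠ j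
  · left
    obtain ⟨i, hi, j, hj, hij⟩ := hI
    obtain ⟨X, hXA, hX1, hXne, hXc, hXb⟩ := nat_cut h hVU hAS hI1 hI2 hi
    obtain ⟨Y, hYA, hY1, hYne, hYc, hYb⟩ := nat_cut h hVU hAS hI1 hI2 hj
    refine ⟨X, hXA, Y, hYA, hX1, hY1, hXne, hYne, hXc, hYc, fun a ha => ?_⟩
    obtain ⟨f, hf, hfa⟩ := hI1 a ha
    obtain ⟨b, hb, hfb⟩ := hI2 (Function.update 0 i (f i)) fun l hl => by
      by_cases hli : l = i
      · rw [hli] at hl; exact absurd hi hl
      · rw [Function.update_of_ne hli]; rfl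
    -- `b ∈ Y`, `a b⁻¹ ∈ X`
    have h1 : b ∈ Y := (hYb b hb _ hfb).2 (by
      rw [Function.update_of_ne (Ne.symm hij)]; rfl)
    have h2 : a * b⁻¹ ∈ X := by
      have h3 := h.acts_mul (inv_mem (hAP hb)) hfa (h.acts_inv (hAP hb) hfb)
      have e : ((fun l => up (f l)) * (fun l => up (Function.update (0 : Fin k → F) i (f i) l))⁻¹) =
          fun l => up (f l + -(Function.update (0 : Fin k → F) i (f i) l)) := by
        funext l
        rw [Pi.mul_apply, Pi.inv_apply, up_inv, up_mul]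
      rw [e] at h3
      refine (hXb _ (mul_mem ha (inv_mem hb)) _ h3).2 ?_
      rw [Function.update_self, add_neg_cancel]
    have e : a = a * b⁻¹ * b := by group
    rw [e]
    exact mul_mem (mem_sup_left h2) (mem_sup_right h1)
  · right
    push Not at hI
    -- `I = {i}`
    obtain ⟨i, hi⟩ : ∃ i, ∀ l, l ∈ I → l = i := by
      by_cases hne : I.Nonempty
      · obtain ⟨i, hi⟩ := hne
        exact ⟨i, fun l hl => hI l hl i hi⟩
      · exfalso
        rw [Set.not_nonempty_iff_eq_empty] at hne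
        refine hoff.ne fun a ha => mem_centralizer_iff.2 fun v hv => ?_
        obtain ⟨b, hb, hab⟩ := hI1 a ha
        have e : (fun i => up (b i)) = (1 : Fin k → Matrix.SpecialLinearGroup (Fin 2) F) := by
          funext l
          rw [hb l (by rw [hne]; exact fun h => h), up_zero]
          rfl
        rw [e] at hab
        exact (h.comm_of_one (hAP ha) hab hv).symm
    have hT := nat_tt h hAS hoff (i := i) fun a ha => by
      obtain ⟨b, hb, hab⟩ := hI1 a ha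
      exact ⟨b, fun l hl => hb l fun hlI => hl (hi l hlI), hab⟩
    obtain ⟨j, O⟩ := hT.one h hV2 le_rfl hAS hoff.ne
    intro a ha hac v hv hav c hc
    exact nat_one h O le_rfl hAS ha hac hv hav hc

omit hVU hAS in
theorem nat_wab {B : Subgroup G} (hA : A ≤ S) (hB : B ≤ S) (oA : OffM V A)
    (oB : OffM V B) {a b v : G} (ha : a ∈ A) (hb : b ∈ B) (hv : v ∈ V) :
    a * (b * v * b⁻¹) * a⁻¹ = b * (a * v * a⁻¹) * b⁻¹ := by
  obtain ⟨I, hI1, -⟩ := M.offM A hA oA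
  obtain ⟨J, hJ1, -⟩ := M.offM B hB oB
  obtain ⟨f, -, hf⟩ := hI1 a ha
  obtain ⟨f', -, hf'⟩ := hJ1 b hb
  exact h.swap (h.SP' (hA ha)) (h.SP' (hB hb)) hf hf' (h.up_comm _ _) hv

end sg

include h in
/-- **natural type** -/
theorem pf_nat (hU2 : IsElementaryAbelian 2 U) (hVU : V ≤ U) : Pf S P V U where
  one := by
    intro B hB t hne b hb hbc u hu hbu c hc
    obtain ⟨i, O⟩ := t.one h hU2 hVU hB hne
    exact nat_one h O hVU hB hb hbc hu hbu hc
  quad := by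
    intro B hB t hne B' hB' t' b hb u hu c hc
    obtain ⟨i, O⟩ := t.one h hU2 hVU hB hne
    exact comm_Y h O hB hU2 hVU hB' t' hc hu hb
  out := by
    intro B hB t hne b hb u hu hbu
    obtain ⟨i, O⟩ := t.one h hU2 hVU hB hne
    exact nat_out h O hVU hB hb hu hbu
  pair := by
    intro B hB B' hB' t t' hne hne' b hb b' hb' u hu u' hu' e hbu c hc
    obtain ⟨i, O⟩ := t.one h hU2 hVU hB hne
    obtain ⟨j, O'⟩ := t'.one h hU2 hVU hB' hne'
    have h1 := nat_comm h O hVU hB hb hu hbu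
    have hbu' : b' * u' ≠ u' * b' := by
      intro h2
      have h3 : b' * u' * b'⁻¹ * u'⁻¹ = 1 := by rw [h2]; group
      rw [← e] at h3
      apply hbu
      exact mul_inv_eq_iff_eq_mul.1 (mul_inv_eq_one.1 h3)
    have h2 := nat_comm h O' hVU hB' hb' hu' hbu'
    have hij : i = j := by
      by_contra hij
      rw [e] at h1
      exact h1.2.2.2 (by rw [h2.2.1 i hij]; rfl)
    subst hij
    obtain ⟨β, hβ⟩ := O.act c hc
    obtain ⟨c', hc', hβ'⟩ := O'.all β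
    exact ⟨c', hc', fun v hv => h.same (h.SP' (hB' hc')) (h.SP' (hB hc)) hβ' hβ hv⟩
  sg := fun A hA hoff => nat_sg h hVU hA h.V2 hoff
  wab := by
    intro A hA oA B hB t hne a ha b hb v hv
    exact nat_wab h hA hB oA (t.offM hU2 hVU hne) ha hb hv

end Cfsg.Agent.Omega.NOThreeL.RRed.Ex

end

section


/-!
# NO-3L, box R: THEOREM EX (#26554): `Pf S P V_P U` from the FF theorem (text: helper245)
-/

set_option autoImplicit false
set_option linter.unusedSectionVars false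

namespace Cfsg.Agent.Omega.NOThreeL.RRed.Ex

open Subgroup Cfsg Cfsg.Agent.ZN Cfsg.Agent.Omega.MinPar
open Cfsg.Agent.Omega.FFThm
open Cfsg.Agent.Omega.FrameFF (cv)
open Cfsg.Agent.Omega.NO3S.ThmB

universe u

variable {G : Type u} [Group G] [Finite G] {S : Sylow 2 G} {P U : Subgroup G}

theorem pf_of' (hc : IsCharacteristicTwoType G) (hP : IsParS (S : Subgroup G) P) (hU2 : IsElementaryAbelian 2 U)
    (hVU : zl (S : Subgroup G) P ≤ U) (con : ConclM (S : Subgroup G) P)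
    (hs : ∀ {k m : ℕ} {M : SymKM (S : Subgroup G) P (zl (S : Subgroup G) P) (cv (S : Subgroup G) P) k m},
      Sb M → Pf (S : Subgroup G) P (zl (S : Subgroup G) P) U) :
    Pf (S : Subgroup G) P (zl (S : Subgroup G) P) U := by
  rcases con with ⟨F, i1, i2, i3, k, -, ⟨M⟩⟩ | ⟨k, m, -, hm, ⟨M⟩⟩
  · exact pf_nat (Inst.nb hc hP M) hU2 hVU
  · exact hs (Inst.sb hc hP hm M)

end Cfsg.Agent.Omega.NOThreeL.RRed.Ex

end

section


/-!
# NO-3L, box R: THEOREM EX (#26554): the field `sg` of `Pf`, symmetric type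

* `sym_cut` : the centraliser of `n0` in an offender, for one transposition;
* **`sym_sg`** : the field `sg` of `Pf S P V U` for `Sb M`.
-/

set_option autoImplicit false
set_option linter.unusedSectionVars false

namespace Cfsg.Agent.Omega.NOThreeL.RRed.Ex.SymSg

open Subgroup Cfsg Cfsg.Agent.ZN Cfsg.Agent.ZN.ChoiceBase
open Cfsg.Agent.Omega.FFThm Cfsg.Agent.Omega.NatPair Cfsg.Agent.Lib.SL2Mat
open Cfsg.Agent.Omega.NO3S.ThmB Cfsg.Agent.Omega.NO3S.ThmB.Sb
open Cfsg.Agent.Omega.NOThreeL.RRed.NS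

universe u

variable {G : Type u} [Group G] [Finite G] {S P V D U A : Subgroup G} {k m : ℕ} {M : SymKM S P V D k m} (h : Sb M)
include h

/-- **the cut** (copy of `Tt.oneS`) -/
theorem sym_cut (hVU : V ≤ U) (hAS : A ≤ S) (hoff : OffM V A) {i : Fin k} {x y : Fin (2 ^ m + 1)} {t : G}
    (hxy : x ≠ y) (hx0 : x ≠ 0) (hy0 : y ≠ 0) (htA : t ∈ A) (htt : Ac M t (pr i x y)) :
    ∃ B ≤ A, A ⊓ centralizer (U : Set G) ≤ B ∧ t ∉ B ∧
      Nat.card A * Nat.card ↥(U ⊓ centralizer (A : Set G)) ≤ Nat.card B * Nat.card ↥(U ⊓ centralizer (B : Set G)) ∧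
      (∀ a ∈ A, a ∈ B ∨ t⁻¹ * a ∈ B) ∧
      ∀ a ∈ A, ∀ τ : Fin k → Equiv.Perm (Fin (2 ^ m + 1)), Ac M a τ → τ i x = x → τ i y = y → τ i 0 = 0 → a ∈ B := by
  have hAP : A ≤ P := hAS.trans h.SP'
  obtain ⟨n0, hn, hne, hfix⟩ := h.nx (i := i) hxy hx0 hy0
  have htP := hAP htA
  have hpx : pr i x y i x = y := by rw [pr, sg_self, Equiv.swap_apply_left]
  have hpy : pr i x y i y = x := by rw [pr, sg_self, Equiv.swap_apply_right]
  have hp0 : pr i x y i 0 = 0 := by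
    rw [pr, sg_self, Equiv.swap_apply_of_ne_of_ne (Ne.symm hx0) (Ne.symm hy0)]
  have htn : M.e (t * n0 * t⁻¹) = dl i y + dl i 0 := by rw [e_pair htt.1 hn hne, hpx, hp0]
  have htn' : t * n0 * t⁻¹ ≠ n0 := fun e => by
    rw [e, hne] at htn
    have h1 := congrFun (congrFun htn i) x
    rw [Pi.add_apply, Pi.add_apply, Pi.add_apply, Pi.add_apply, dl_self, dl_ne i hx0, dl_ne i hxy] at h1
    simp at h1
  -- every element of `A`
  have hel : ∀ a ∈ A, a * n0 = n0 * a ∨ (t⁻¹ * a) * n0 = n0 * (t⁻¹ * a) := by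
    intro a ha
    obtain ⟨τ, hτ, h0, hτ'⟩ := off_elem' hAS hoff ha
    rcases keep' h hAS hτ' (hAS htA) hxy htt.1 with ⟨h1, h2⟩ | ⟨h1, h2⟩
    · exact Or.inl (hfix a (hAP ha) τ hτ h1 h2 (h0 i))
    · right
      have h3 := h.ac_mul (hAP ha) (h.ac_inv htP htt) hτ
      have e : ((pr i x y)⁻¹ * τ) i = Equiv.swap x y * τ i := by
        rw [Pi.mul_apply, Pi.inv_apply, pr, sg_self, Equiv.swap_inv]
      refine hfix _ (mul_mem (inv_mem htP) (hAP ha)) _ h3 ?_ ?_ ?_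
      · rw [e, Equiv.Perm.mul_apply, h1, Equiv.swap_apply_right]
      · rw [e, Equiv.Perm.mul_apply, h2, Equiv.swap_apply_left]
      · rw [e, Equiv.Perm.mul_apply, h0 i, Equiv.swap_apply_of_ne_of_ne (Ne.symm hx0) (Ne.symm hy0)]
  let B : Subgroup G := A ⊓ centralizer ({n0} : Set G)
  have hBmem : ∀ a, a ∈ B ↔ a ∈ A ∧ a * n0 = n0 * a := fun a => by
    rw [mem_inf, mem_centralizer_singleton_iff]
  have hBA : B ≤ A := inf_le_left
  have h1B : A ⊓ centralizer (U : Set G) ≤ B := fun a ha =>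
    (hBmem a).2 ⟨ha.1, (mem_centralizer_iff.1 ha.2 n0 (hVU hn)).symm⟩
  have htB : t ∉ B := fun h1 => htn' (by rw [((hBmem t).1 h1).2]; group)
  -- `|A| ≤ 2 |B|`
  have hcA : Nat.card A ≤ 2 * Nat.card B := by
    classical
    have h1 : Nat.card A ≤ Nat.card Bool * Nat.card B := by
      refine card_le_of_map (fun a => decide (a * n0 = n0 * a)) fun a ha a' ha' he => ?_
      have he' : (a * n0 = n0 * a) ↔ (a' * n0 = n0 * a') := decide_eq_decide.1 he
      refine (hBmem _).2 ⟨mul_mem (inv_mem ha) ha', ?_⟩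
      by_cases hc : a * n0 = n0 * a
      · exact ((show Commute a n0 from hc).inv_left).mul_left (he'.1 hc)
      · have h2 : Commute (t⁻¹ * a) n0 := (hel a ha).resolve_left hc
        have h3 : Commute (t⁻¹ * a') n0 := (hel a' ha').resolve_left fun h => hc (he'.2 h)
        have h4 := h2.inv_left.mul_left h3
        have e : (t⁻¹ * a)⁻¹ * (t⁻¹ * a') = a⁻¹ * a' := by group
        rw [e] at h4
        exact h4
    rwa [Nat.card_eq_fintype_card (α := Bool), Fintype.card_bool] at h1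
  -- `2 |C_U(A)| ≤ |C_U(B)|`
  let f : Bool → G := fun b => if b then n0 else 1
  have hfU : ∀ b, f b ∈ U := fun b => by
    cases b
    · exact one_mem _
    · exact hVU hn
  have hinj : ∀ b c b' c', c ∈ U → (∀ a ∈ A, a * c = c * a) → c' ∈ U → (∀ a ∈ A, a * c' = c' * a) →
      f b * c = f b' * c' → b = b' ∧ c = c' := by
    intro b c b' c' hc hca hc' hca' e
    have key : ∀ c c' : G, (∀ a ∈ A, a * c = c * a) → (∀ a ∈ A, a * c' = c' * a) → n0 * c = c' → False := by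
      intro c c' h1 h2 h3
      have h4 : Commute t (n0 * c) := by rw [h3]; exact h2 t htA
      have h5 : Commute t (n0 * c * c⁻¹) := h4.mul_right ((show Commute t c from h1 t htA).inv_right)
      rw [mul_inv_cancel_right] at h5
      exact htn' (by rw [h5.eq]; group)
    cases b <;> cases b'
    · simp only [f] at e
      exact ⟨rfl, by simpa using e⟩
    · simp only [f] at e
      exact (key c' c hca' hca (by simpa using e.symm)).elim
    · simp only [f] at e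
      exact (key c c' hca hca' (by simpa using e)).elim
    · simp only [f] at e
      exact ⟨rfl, by simpa using e⟩
  have hcU : 2 * Nat.card ↥(U ⊓ centralizer (A : Set G)) ≤ Nat.card ↥(U ⊓ centralizer (B : Set G)) := by
    have h2 : (2 : ℕ) = Nat.card Bool := by rw [Nat.card_eq_fintype_card, Fintype.card_bool]
    rw [h2, ← Nat.card_prod]
    refine Nat.card_le_card_of_injective
      (fun p : Bool × ↥(U ⊓ centralizer (A : Set G)) =>
        (⟨f p.1 * p.2, mul_mem ⟨hfU _, ?_⟩ ?_⟩ : ↥(U ⊓ centralizer (B : Set G)))) fun p q e => ?_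
    · refine mem_centralizer_iff.2 fun a ha => ?_
      cases p.1
      · simp [f]
      · simpa [f] using ((hBmem a).1 ha).2
    · exact ⟨p.2.2.1, mem_centralizer_iff.2 fun a ha => mem_centralizer_iff.1 p.2.2.2 a (hBA ha)⟩
    · have h1 := hinj p.1 p.2 q.1 q.2 p.2.2.1 (mem_centralizer_iff.1 p.2.2.2) q.2.2.1
        (mem_centralizer_iff.1 q.2.2.2) (congrArg Subtype.val e)
      exact Prod.ext h1.1 (Subtype.ext h1.2)
  refine ⟨B, hBA, h1B, htB, ?_, fun a ha => ?_, fun a ha τ hτ h1 h2 h0 => ?_⟩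
  · calc Nat.card A * Nat.card ↥(U ⊓ centralizer (A : Set G)) ≤
        2 * Nat.card B * Nat.card ↥(U ⊓ centralizer (A : Set G)) := Nat.mul_le_mul_right _ hcA
      _ = Nat.card B * (2 * Nat.card ↥(U ⊓ centralizer (A : Set G))) := by ring
      _ ≤ _ := Nat.mul_le_mul_left _ hcU
  · rcases hel a ha with h1 | h1
    · exact Or.inl ((hBmem a).2 ⟨ha, h1⟩)
    · exact Or.inr ((hBmem _).2 ⟨mul_mem (inv_mem htA) ha, h1⟩)
  · exact (hBmem a).2 ⟨ha, hfix a (hAP ha) τ hτ h1 h2 h0⟩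

omit h in
/-- a transposition with other points fixes `x` and `y` -/
theorem pr_fix {i j : Fin k} {x y x' y' : Fin (2 ^ m + 1)}
    (hd : j = i → x ≠ x' ∧ x ≠ y' ∧ y ≠ x' ∧ y ≠ y') : pr j x' y' i x = x ∧ pr j x' y' i y = y := by
  by_cases hji : j = i
  · subst hji
    obtain ⟨h1, h2, h3, h4⟩ := hd rfl
    rw [pr, sg_self]
    exact ⟨Equiv.swap_apply_of_ne_of_ne h1 h2, Equiv.swap_apply_of_ne_of_ne h3 h4⟩
  · rw [pr, sg_ne (Ne.symm hji)]
    exact ⟨rfl, rfl⟩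

omit h in
theorem pr_zero {i j : Fin k} {x y : Fin (2 ^ m + 1)} (hx0 : x ≠ 0) (hy0 : y ≠ 0) : pr j x y i 0 = 0 := by
  by_cases hji : j = i
  · subst hji
    rw [pr, sg_self]
    exact Equiv.swap_apply_of_ne_of_ne (Ne.symm hx0) (Ne.symm hy0)
  · rw [pr, sg_ne (Ne.symm hji)]
    rfl

/-- two transpositions of `S` are equal or disjoint -/
theorem sym_disj {t b : G} (ht : t ∈ S) (hb : b ∈ S) {i j : Fin k} {x y x' y' : Fin (2 ^ m + 1)} (hxy : x ≠ y)
    (hxy' : x' ≠ y') (htA : Ac M t (pr i x y)) (hbA : Ac M b (pr j x' y')) :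
    pr j x' y' = pr i x y ∨ (j = i → x ≠ x' ∧ x ≠ y' ∧ y ≠ x' ∧ y ≠ y') := by
  by_cases hji : j = i
  swap
  · exact Or.inr fun e => absurd e hji
  subst hji
  have hsw : ∀ a c : Fin (2 ^ m + 1), pr j a c = pr j c a := fun a c => by rw [pr, pr, Equiv.swap_comm]
  by_cases h1 : x = x'
  · left
    subst h1
    rw [h.disj ht hb (Ne.symm hxy) (Ne.symm hxy') htA.1 hbA.1]
  by_cases h2 : x = y'
  · left
    subst h2
    rw [hsw x' x] at hbA ⊢
    rw [h.disj ht hb (Ne.symm hxy) hxy' htA.1 hbA.1]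
  by_cases h3 : y = x'
  · left
    subst h3
    rw [hsw x y] at htA ⊢
    rw [h.disj ht hb hxy (Ne.symm hxy') htA.1 hbA.1]
  by_cases h4 : y = y'
  · left
    subst h4
    rw [hsw x' y] at hbA ⊢
    rw [hsw x y] at htA ⊢
    rw [h.disj ht hb hxy hxy' htA.1 hbA.1]
  exact Or.inr fun _ => ⟨h1, h2, h3, h4⟩

/-- **the field `sg`, symmetric type** -/
theorem sym_sg (hVU : V ≤ U) (hAS : A ≤ S) (hoff : OffM V A) :
    (∃ X ≤ A, ∃ Y ≤ A, A ⊓ centralizer (U : Set G) ≤ X ∧ A ⊓ centralizer (U : Set G) ≤ Y ∧ X ≠ A ∧ Y ≠ A ∧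
      Nat.card A * Nat.card ↥(U ⊓ centralizer (A : Set G)) ≤ Nat.card X * Nat.card ↥(U ⊓ centralizer (X : Set G)) ∧
      Nat.card A * Nat.card ↥(U ⊓ centralizer (A : Set G)) ≤ Nat.card Y * Nat.card ↥(U ⊓ centralizer (Y : Set G)) ∧
      A ≤ X ⊔ Y) ∨
      (∀ a ∈ A, a ∉ centralizer (V : Set G) → ∀ v ∈ V, a * v = v * a → ∀ c ∈ A, c * v = v * c) := by
  have hAP : A ≤ P := hAS.trans h.SP'
  -- a transposition
  obtain ⟨i, x, y, t, hxy, hx0, hy0, htA, htt⟩ : ∃ i x y, ∃ t, x ≠ y ∧ x ≠ 0 ∧ y ≠ 0 ∧ t ∈ A ∧ Ac M t (pr i x y) := by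
    by_contra hne
    push Not at hne
    refine hoff.ne fun a ha => mem_centralizer_iff.2 fun v hv => ?_
    obtain ⟨τ, hτ, h0, hτ'⟩ := off_elem' hAS hoff ha
    have h1 : τ = 1 := by
      funext i
      ext1 x
      by_contra hx
      have hx' : τ i x ≠ x := hx
      obtain ⟨-, b, hb, hbA⟩ := hτ' i x hx'
      have hx0 : x ≠ 0 := fun e => hx' (by rw [e, h0])
      have hy0 : τ i x ≠ 0 := fun e => hx0 ((τ i).injective (by rw [e, h0]))
      exact hne i x (τ i x) b (Ne.symm hx') hx0 hy0 hb hbA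
    rw [h1] at hτ
    exact (h.comm_of_one (hAP ha) hτ hv).symm
  by_cases hall : ∀ j x' y', x' ≠ y' → x' ≠ 0 → y' ≠ 0 → ∀ b ∈ A, Ac M b (pr j x' y') → pr j x' y' = pr i x y
  · right
    -- every element of `A` acts as `1` or as `t`
    have hel : ∀ a ∈ A, (∀ v ∈ V, a * v = v * a) ∨ ∀ v ∈ V, a * v * a⁻¹ = t * v * t⁻¹ := by
      intro a ha
      obtain ⟨τ, hτ, h0, hτ'⟩ := off_elem' hAS hoff ha
      have hmv : ∀ j z, τ j z ≠ z → pr j z (τ j z) = pr i x y := by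
        intro j z hz
        obtain ⟨-, b, hb, hbA⟩ := hτ' j z hz
        have hx0 : z ≠ 0 := fun e => hz (by rw [e, h0])
        have hy0 : τ j z ≠ 0 := fun e => hx0 ((τ j).injective (by rw [e, h0]))
        exact hall j z (τ j z) (Ne.symm hz) hx0 hy0 b hb hbA
      -- `τ j z` is `z`, or `(x y) z`
      have hz1 : ∀ j z, τ j z = z ∨ τ j z = pr i x y j z := by
        intro j z
        by_cases hz : τ j z = z
        · exact Or.inl hz
        · right
          rw [← hmv j z hz, pr, sg_self, Equiv.swap_apply_left]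
      by_cases h1 : τ = 1
      · left
        rw [h1] at hτ
        exact fun v hv => h.comm_of_one (hAP ha) hτ hv
      · right
        -- `τ` moves a point
        obtain ⟨j, z, hz⟩ : ∃ j z, τ j z ≠ z := by
          by_contra hcon
          push Not at hcon
          exact h1 (funext fun j => Equiv.ext fun z => hcon j z)
        have e : τ = pr i x y := by
          have h2 := hmv j z hz
          rw [← h2]
          funext l
          ext1 w
          rcases hz1 l w with h3 | h3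
          · rw [h3]
            -- `w` is fixed by `τ`
            by_cases hlj : l = j
            · subst hlj
              rw [pr, sg_self]
              have hwz : w ≠ z := fun e => hz (by rw [← e]; exact h3)
              have hwz' : w ≠ τ l z := fun e => by
                have h4 : τ l (τ l z) = τ l z := by rw [← e]; exact h3
                exact hz ((τ l).injective h4)
              rw [Equiv.swap_apply_of_ne_of_ne hwz hwz']
            · rw [pr, sg_ne hlj]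
              rfl
          · rw [h3, h2]
        rw [e] at hτ
        exact fun v hv => h.same (hAP ha) (hAP htA) hτ htt hv
    intro a ha hac v hv hav c hc
    have h1 : ∀ v ∈ V, a * v * a⁻¹ = t * v * t⁻¹ :=
      (hel a ha).resolve_left fun h1 => hac (mem_centralizer_iff.2 fun v hv => (h1 v hv).symm)
    rcases hel c hc with h2 | h2
    · exact h2 v hv
    · have h3 := h2 v hv
      rw [← h1 v hv, hav, mul_inv_cancel_right] at h3
      exact mul_inv_eq_iff_eq_mul.1 h3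
  · left
    push Not at hall
    obtain ⟨j, x', y', hxy', hx0', hy0', t', htA', htt', hne⟩ := hall
    have hd : j = i → x ≠ x' ∧ x ≠ y' ∧ y ≠ x' ∧ y ≠ y' :=
      (sym_disj h (hAS htA) (hAS htA') hxy hxy' htt htt').resolve_left hne
    obtain ⟨X, hXA, hX1, hXt, hXc, hXe, hXf⟩ := sym_cut h hVU hAS hoff hxy hx0 hy0 htA htt
    obtain ⟨Y, hYA, hY1, hYt, hYc, hYe, hYf⟩ := sym_cut h hVU hAS hoff hxy' hx0' hy0' htA' htt'
    have htY : t ∈ Y := by
      have h1 : pr i x y j x' = x' ∧ pr i x y j y' = y' := pr_fix fun e => by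
        obtain ⟨h1, h2, h3, h4⟩ := hd e.symm
        exact ⟨Ne.symm h1, Ne.symm h3, Ne.symm h2, Ne.symm h4⟩
      exact hYf t htA _ htt h1.1 h1.2 (pr_zero hx0 hy0)
    refine ⟨X, hXA, Y, hYA, hX1, hY1, fun e => hXt (by rw [e]; exact htA), fun e => hYt (by rw [e]; exact htA'),
      hXc, hYc, fun a ha => ?_⟩
    rcases hXe a ha with h1 | h1
    · exact mem_sup_left h1
    · have e : a = t * (t⁻¹ * a) := by group
      rw [e]
      exact mul_mem (mem_sup_right htY) (mem_sup_left h1)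

end Cfsg.Agent.Omega.NOThreeL.RRed.Ex.SymSg

end

section


/-!
# NO-3L, box R: THEOREM EX (#26554): `Pf S P V U`, symmetric type

`A` acts on `V` as one transposition `t`: the fields `one`, `quad`, `out`, `pair`, `wab`, and

* **`pf_sym`** : `Pf S P V U` for `Sb M`.
-/

set_option autoImplicit false
set_option linter.unusedSectionVars false

namespace Cfsg.Agent.Omega.NOThreeL.RRed.Ex.SymOut

open Subgroup Cfsg Cfsg.Agent.ZN Cfsg.Agent.ZN.ChoiceBase
open Cfsg.Agent.Omega.FFThm Cfsg.Agent.Omega.NatPair Cfsg.Agent.Lib.SL2Mat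
open Cfsg.Agent.Omega.NO3S.ThmB Cfsg.Agent.Omega.NO3S.ThmB.Sb
open Cfsg.Agent.Omega.NOThreeL.RRed.NS

universe u

variable {G : Type u} [Group G] [Finite G] {S P V D U A : Subgroup G} {k m : ℕ} {M : SymKM S P V D k m} (h : Sb M)

section one

variable {i : Fin k} {x y : Fin (2 ^ m + 1)} {t n0 : G} (O : OneS M U A i x y t n0)
include O

/-- `C_U(a) = C_U(A)` -/
theorem s_one {a : G} (ha : a ∈ A) (hac : a ∉ centralizer (U : Set G)) {u : G} (hu : u ∈ U) (hau : a * u = u * a)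
    {c : G} (hc : c ∈ A) : c * u = u * c := by
  have h1 : t⁻¹ * a ∈ centralizer (U : Set G) := (O.act a ha).resolve_left hac
  have h2 : Commute (t⁻¹ * a) u := (mem_centralizer_iff.1 h1 u hu).symm
  have h3 : Commute a u := hau
  have h4 : Commute t u := by
    have h4 := h3.mul_left h2.inv_left
    have e : a * (t⁻¹ * a)⁻¹ = t := by group
    rwa [e] at h4
  rcases O.act c hc with h5 | h5
  · exact (mem_centralizer_iff.1 h5 u hu).symm
  · have h6 : Commute (t⁻¹ * c) u := (mem_centralizer_iff.1 h5 u hu).symm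
    have h7 := h4.mul_left h6
    rw [mul_inv_cancel_left] at h7
    exact h7

/-- `[a, u]` is `1` or `[t, n₀]` -/
theorem s_comm (hU2 : IsElementaryAbelian 2 U) (hVU : V ≤ U) {a u : G} (ha : a ∈ A) (hu : u ∈ U) :
    a * u * a⁻¹ * u⁻¹ = 1 ∨ a * u * a⁻¹ * u⁻¹ = t * n0 * t⁻¹ * n0⁻¹ := by
  have hn : n0 ∈ U := hVU O.nV
  rcases O.act a ha with h1 | h1
  · left
    rw [← mem_centralizer_iff.1 h1 u hu]
    group
  · rcases O.full u hu with h2 | h2
    · left
      rw [h2 a ha]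
      group
    · right
      have h3 : Commute t (n0⁻¹ * u) := h2 t O.tA
      have h5 : Commute (t⁻¹ * a) u := (mem_centralizer_iff.1 h1 u hu).symm
      have e1 : a * u * a⁻¹ = t * u * t⁻¹ := by
        calc a * u * a⁻¹ = t * ((t⁻¹ * a) * u) * (t⁻¹ * a)⁻¹ * t⁻¹ := by group
          _ = t * (u * (t⁻¹ * a)) * (t⁻¹ * a)⁻¹ * t⁻¹ := by rw [h5.eq]
          _ = t * u * t⁻¹ := by group
      rw [e1]
      calc t * u * t⁻¹ * u⁻¹ = t * n0 * t⁻¹ * (t * (n0⁻¹ * u) * t⁻¹) * u⁻¹ := by group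
        _ = t * n0 * t⁻¹ * (n0⁻¹ * u * t * t⁻¹) * u⁻¹ := by rw [h3.eq]
        _ = t * n0 * t⁻¹ * n0⁻¹ := by group

theorem s_comm_ne (hU2 : IsElementaryAbelian 2 U) (hVU : V ≤ U) {a u : G} (ha : a ∈ A) (hu : u ∈ U)
    (hau : a * u ≠ u * a) : a * u * a⁻¹ * u⁻¹ = t * n0 * t⁻¹ * n0⁻¹ := by
  rcases s_comm O hU2 hVU ha hu with e | e
  · exact absurd (mul_inv_eq_iff_eq_mul.1 (mul_inv_eq_one.1 e)) hau
  · exact e

include h

/-- an element of `P` which fixes `0` and fixes or interchanges `x`, `y` commutes with `[t, n₀]` -/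
theorem s_cen {g : G} (hg : g ∈ P) {τ : Fin k → Equiv.Perm (Fin (2 ^ m + 1))} (hτ : Ac M g τ) (h0 : τ i 0 = 0)
    (hxy : (τ i x = x ∧ τ i y = y) ∨ (τ i x = y ∧ τ i y = x)) :
    g * (t * n0 * t⁻¹ * n0⁻¹) = t * n0 * t⁻¹ * n0⁻¹ * g := by
  rcases hxy with ⟨hx, hy⟩ | ⟨hx, hy⟩
  · exact (h.fix_nxy O hg hτ hx hy h0).eq
  · have htP : t ∈ P := h.SP' (O.AS O.tA)
    have hpi : ((pr i x y)⁻¹ * τ) i = Equiv.swap x y * τ i := by
      rw [Pi.mul_apply, Pi.inv_apply, pr, sg_self, Equiv.swap_inv]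
    have h1 : Commute (t⁻¹ * g) (t * n0 * t⁻¹ * n0⁻¹) := by
      refine h.fix_nxy O (mul_mem (inv_mem htP) hg) (h.ac_mul hg (h.ac_inv htP O.tt) hτ) ?_ ?_ ?_
      · rw [hpi, Equiv.Perm.mul_apply, hx, Equiv.swap_apply_right]
      · rw [hpi, Equiv.Perm.mul_apply, hy, Equiv.swap_apply_left]
      · rw [hpi, Equiv.Perm.mul_apply, h0, Equiv.swap_apply_of_ne_of_ne (Ne.symm O.x0) (Ne.symm O.y0)]
    have h2 := (h.t_nxy O).mul_left h1
    rw [mul_inv_cancel_left] at h2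
    exact h2.eq

/-- a smallest best offender centralises `[U, A]` -/
theorem s_quad (hU2 : IsElementaryAbelian 2 U) (hVU : V ≤ U) {B : Subgroup G} (hBS : B ≤ S) (tB : Tt U B) {b a u : G}
    (hb : b ∈ B) (ha : a ∈ A) (hu : u ∈ U) : b * (a * u * a⁻¹ * u⁻¹) = a * u * a⁻¹ * u⁻¹ * b := by
  rcases s_comm O hU2 hVU ha hu with e | e
  · rw [e, mul_one, one_mul]
  · rw [e]
    by_cases hBV : B ≤ centralizer (V : Set G)
    · exact (mem_centralizer_iff.1 (hBV hb) _ (h.e_nxy O).1).symm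
    · obtain ⟨τ, hτ, h0, hτ'⟩ := off_elem' hBS (tB.offM hU2 hVU hBV) hb
      exact s_cen h O (h.SP' (hBS hb)) hτ (h0 i) (keep' h hBS hτ' (O.AS O.tA) O.xy O.tt.1)

/-- **the field `out`** -/
theorem s_out (hU2 : IsElementaryAbelian 2 U) (hVU : V ≤ U) {a : G} (ha : a ∈ A) {u : G} (hu : u ∈ U)
    (hau : a * u ≠ u * a) :
    ∃ p ∈ P, ∃ c ∈ A, ∃ d ∈ A, d * (p * c * p⁻¹ * (a * u * a⁻¹ * u⁻¹) * (p * c * p⁻¹)⁻¹) ≠
      p * c * p⁻¹ * (a * u * a⁻¹ * u⁻¹) * (p * c * p⁻¹)⁻¹ * d := by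
  have htP : t ∈ P := h.SP' (O.AS O.tA)
  rw [s_comm_ne O hU2 hVU ha hu hau]
  obtain ⟨hwV, hwe⟩ := h.e_nxy O
  set w := t * n0 * t⁻¹ * n0⁻¹ with hw
  obtain ⟨z, -, -, hzx, hzy, -⟩ := h.exists_ne x y x
  obtain ⟨p, hp, hpA⟩ := M.lift (pr i x z)
  refine ⟨p, hp, t, O.tA, t, O.tA, fun hcon => ?_⟩
  have hg : p * t * p⁻¹ ∈ P := mul_mem (mul_mem hp htP) (inv_mem hp)
  have hgA : Ac M (p * t * p⁻¹) (pr i x z * pr i x y * (pr i x z)⁻¹) :=
    h.ac_mul (inv_mem hp) (h.ac_mul htP hpA O.tt) (h.ac_inv hp hpA)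
  have hsi : (pr i x z * pr i x y * (pr i x z)⁻¹) i = Equiv.swap x z * Equiv.swap x y * Equiv.swap x z := by
    rw [Pi.mul_apply, Pi.mul_apply, Pi.inv_apply, pr, pr, sg_self, sg_self, Equiv.swap_inv]
  have he : M.e (p * t * p⁻¹ * w * (p * t * p⁻¹)⁻¹) = dl i x + dl i z := by
    rw [e_pair hgA.1 hwV hwe, hsi, Equiv.Perm.mul_apply, Equiv.Perm.mul_apply, Equiv.Perm.mul_apply,
      Equiv.Perm.mul_apply, Equiv.swap_apply_left, Equiv.swap_apply_of_ne_of_ne hzx hzy, Equiv.swap_apply_right,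
      Equiv.swap_apply_of_ne_of_ne (Ne.symm O.xy) (Ne.symm hzy), Equiv.swap_apply_right, Equiv.swap_apply_left]
  have hm : p * t * p⁻¹ * w * (p * t * p⁻¹)⁻¹ ∈ V := h.memV hg hwV
  have h1 := e_pair O.tt.1 hm he
  have h2 : t * (p * t * p⁻¹ * w * (p * t * p⁻¹)⁻¹) * t⁻¹ = p * t * p⁻¹ * w * (p * t * p⁻¹)⁻¹ := by
    rw [hcon, mul_inv_cancel_right]
  have hpz : pr i x y i z = z := by
    rw [pr, sg_self, Equiv.swap_apply_of_ne_of_ne hzx hzy]
  have hpx : pr i x y i x = y := by rw [pr, sg_self, Equiv.swap_apply_left]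
  rw [h2, he, hpx, hpz] at h1
  have h3 := congrFun (congrFun h1 i) x
  rw [Pi.add_apply, Pi.add_apply, Pi.add_apply, Pi.add_apply, dl_self, dl_ne i (Ne.symm hzx), dl_ne i O.xy] at h3
  simp at h3

end one

include h

/-- equal pairs -/
theorem pair_eq {i j : Fin k} {x y x' y' : Fin (2 ^ m + 1)} (hxy : x ≠ y) (hxy' : x' ≠ y')
    (e : (dl i x + dl i y : Fin k → Fin (2 ^ m + 1) → ZMod 2) = dl j x' + dl j y') : pr j x' y' = pr i x y := by
  have hji : j = i := by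
    by_contra hji
    have h1 := congrFun (congrFun e i) x
    rw [Pi.add_apply, Pi.add_apply, Pi.add_apply, Pi.add_apply, dl_self, dl_ne i hxy, dl_ne' (Ne.symm hji),
      dl_ne' (Ne.symm hji)] at h1
    simp at h1
  subst hji
  have key : ∀ z, (z = x' ∨ z = y') → z = x ∨ z = y := by
    intro z hz
    by_contra hcon
    push Not at hcon
    have h1 := congrFun (congrFun e j) z
    rw [Pi.add_apply, Pi.add_apply, Pi.add_apply, Pi.add_apply, dl_ne j hcon.1, dl_ne j hcon.2] at h1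
    rcases hz with rfl | rfl
    · rw [dl_self, dl_ne j hxy'] at h1
      simp at h1
    · rw [dl_self, dl_ne j (Ne.symm hxy')] at h1
      simp at h1
  rcases key x' (Or.inl rfl) with h1 | h1 <;> rcases key y' (Or.inr rfl) with h2 | h2
  · exact absurd (h1.trans h2.symm) hxy'
  · rw [h1, h2]
  · rw [h1, h2, pr, pr, Equiv.swap_comm]
  · exact absurd (h1.trans h2.symm) hxy'

/-- **the field `pair`** -/
theorem s_pair (hU2 : IsElementaryAbelian 2 U) (hVU : V ≤ U) {A' : Subgroup G} {i : Fin k}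
    {x y : Fin (2 ^ m + 1)} {t n0 : G} (O : OneS M U A i x y t n0) {j : Fin k} {x' y' : Fin (2 ^ m + 1)} {t' n0' : G}
    (O' : OneS M U A' j x' y' t' n0') {b b' u u' : G} (hb : b ∈ A) (hb' : b' ∈ A') (hu : u ∈ U) (hu' : u' ∈ U)
    (e : b * u * b⁻¹ * u⁻¹ = b' * u' * b'⁻¹ * u'⁻¹) (hbu : b * u ≠ u * b) {c : G} (hc : c ∈ A) :
    ∃ c' ∈ A', ∀ v ∈ V, c' * v * c'⁻¹ = c * v * c⁻¹ := by
  have htP : t ∈ P := h.SP' (O.AS O.tA)
  have htP' : t' ∈ P := h.SP' (O'.AS O'.tA)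
  have hbu' : b' * u' ≠ u' * b' := by
    intro h2
    have h3 : b' * u' * b'⁻¹ * u'⁻¹ = 1 := by rw [h2]; group
    rw [← e] at h3
    exact hbu (mul_inv_eq_iff_eq_mul.1 (mul_inv_eq_one.1 h3))
  rw [s_comm_ne O hU2 hVU hb hu hbu, s_comm_ne O' hU2 hVU hb' hu' hbu'] at e
  have e1 := congrArg M.e e
  rw [(h.e_nxy O).2, (h.e_nxy O').2] at e1
  have e2 : pr j x' y' = pr i x y := pair_eq h O.xy O'.xy e1
  have htt' : Ac M t' (pr i x y) := by rw [← e2]; exact O'.tt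
  rcases O.act c hc with h1 | h1
  · refine ⟨1, one_mem _, fun v hv => ?_⟩
    rw [← mem_centralizer_iff.1 h1 v (hVU hv)]
    group
  · refine ⟨t', O'.tA, fun v hv => ?_⟩
    rw [h.same htP' htP htt' O.tt hv]
    have h2 : Commute (t⁻¹ * c) v := (mem_centralizer_iff.1 h1 v (hVU hv)).symm
    symm
    calc c * v * c⁻¹ = t * ((t⁻¹ * c) * v) * (t⁻¹ * c)⁻¹ * t⁻¹ := by group
      _ = t * (v * (t⁻¹ * c)) * (t⁻¹ * c)⁻¹ * t⁻¹ := by rw [h2.eq]
      _ = t * v * t⁻¹ := by group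

/-- **the field `wab`** -/
theorem s_wab (hVU : V ≤ U) (hAS : A ≤ S) (oA : OffM V A) {B : Subgroup G} {i : Fin k}
    {x y : Fin (2 ^ m + 1)} {t n0 : G} (O : OneS M U B i x y t n0) {a b v : G} (ha : a ∈ A) (hb : b ∈ B) (hv : v ∈ V) :
    a * (b * v * b⁻¹) * a⁻¹ = b * (a * v * a⁻¹) * b⁻¹ := by
  have htP : t ∈ P := h.SP' (O.AS O.tA)
  have haP : a ∈ P := h.SP' (hAS ha)
  obtain ⟨τ, hτ, h0, hτ'⟩ := off_elem' hAS oA ha
  have hc : τ * pr i x y = pr i x y * τ := by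
    rcases keep' h hAS hτ' (O.AS O.tA) O.xy O.tt.1 with ⟨h1, h2⟩ | ⟨h1, h2⟩
    · exact pr_comm h1 h2
    · funext l
      rw [Pi.mul_apply, Pi.mul_apply]
      by_cases hl : l = i
      · subst hl
        rw [pr, sg_self, Equiv.mul_swap_eq_swap_mul, h1, h2, Equiv.swap_comm]
      · rw [pr, sg_ne hl, one_mul, mul_one]
  have hav : a * v * a⁻¹ ∈ V := h.memV haP hv
  rcases O.act b hb with h1 | h1
  · have h2 : b * v * b⁻¹ = v := by
      rw [← mem_centralizer_iff.1 h1 v (hVU hv)]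
      group
    have h3 : b * (a * v * a⁻¹) * b⁻¹ = a * v * a⁻¹ := by
      rw [← mem_centralizer_iff.1 h1 _ (hVU hav)]
      group
    rw [h2, h3]
  · have key : ∀ w ∈ V, b * w * b⁻¹ = t * w * t⁻¹ := by
      intro w hw
      have h2 : Commute (t⁻¹ * b) w := (mem_centralizer_iff.1 h1 w (hVU hw)).symm
      calc b * w * b⁻¹ = t * ((t⁻¹ * b) * w) * (t⁻¹ * b)⁻¹ * t⁻¹ := by group
        _ = t * (w * (t⁻¹ * b)) * (t⁻¹ * b)⁻¹ * t⁻¹ := by rw [h2.eq]
        _ = t * w * t⁻¹ := by group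
    rw [key v hv, key _ hav]
    exact h.swap haP htP hτ O.tt hc hv

/-- **symmetric type** -/
theorem pf_sym (hU2 : IsElementaryAbelian 2 U) (hVU : V ≤ U) : Pf S P V U where
  one := by
    intro B hB t hne b hb hbc u hu hbu c hc
    obtain ⟨i, x, y, t', n0, O⟩ := t.oneS h hU2 hVU hB hne
    exact s_one O hb hbc hu hbu hc
  quad := by
    intro B hB t hne B' hB' t' b hb u hu c hc
    obtain ⟨i, x, y, t'', n0, O⟩ := t.oneS h hU2 hVU hB hne
    exact s_quad h O hU2 hVU hB' t' hc hb hu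
  out := by
    intro B hB t hne b hb u hu hbu
    obtain ⟨i, x, y, t', n0, O⟩ := t.oneS h hU2 hVU hB hne
    exact s_out h O hU2 hVU hb hu hbu
  pair := by
    intro B hB B' hB' t t' hne hne' b hb b' hb' u hu u' hu' e hbu c hc
    obtain ⟨i, x, y, s, n0, O⟩ := t.oneS h hU2 hVU hB hne
    obtain ⟨j, x', y', s', n0', O'⟩ := t'.oneS h hU2 hVU hB' hne'
    exact s_pair h hU2 hVU O O' hb hb' hu hu' e hbu hc
  sg := fun A hA hoff => SymSg.sym_sg h hVU hA hoff
  wab := by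
    intro A hA oA B hB t hne a ha b hb v hv
    obtain ⟨i, x, y, t', n0, O⟩ := t.oneS h hU2 hVU hB hne
    exact s_wab h hVU hA oA O ha hb hv

end Cfsg.Agent.Omega.NOThreeL.RRed.Ex.SymOut

end
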