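import Cfsg.Agent.Mrg.Omega.NOThreeL.RRed.Ex.Inst
import Cfsg.Agent.Mrg.Omega.NOThreeL.RRed.Ex.Pf
import Cfsg.Agent.Mrg.Omega.NOThreeL.RRed.Ex.Def
import Cfsg.Agent.Mrg.Omega.NOThreeL.RRed.ClassMx
import Cfsg.Agent.Mrg.Omega.NOThreeL.RRed.Blk.AsmEsB
import Cfsg.Agent.Mrg.Omega.NOThreeL.RRed.Blk.AsmG
import Cfsg.Agent.Mrg.Omega.NOThreeL.RRed.NS.Fin

section


/-!
# NO-3L, box R: THEOREM EX (#26554), the field `sg` of `Gp` from `Pf.sg`
-/

set_option autoImplicit false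
set_option linter.unusedSectionVars false

namespace Cfsg.Agent.Omega.NOThreeL.RRed.Ex.Sg

open Subgroup Cfsg Cfsg.Agent.ZN Cfsg.Agent.Omega.MinPar
open Cfsg.Agent.Omega.FFThm
open Cfsg.Agent.Omega.NOThreeL.RSplit (Nrm)
open Cfsg.Agent.Omega.NOThreeL.RRed.NS (fxd brk mem_fxd smul_eq_iff conj_eq_cj)
open Cfsg.Agent.Omega.NOThreeL.RRed.Blk.Types (El)
open Cfsg.Agent.Omega.NOThreeL.RRed.Blk.TypesNat (XH ph ph_smul ph_surj mem_ker)
open Cfsg.Agent.Omega.NOThreeL.RRed.Blk.AsmCore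
open scoped Pointwise

universe u

variable {G : Type u} [Group G]

section basic

variable {L U : Subgroup G} (Q : Nrm L U)

/-- `C_A(U) ≤ X ≤ A`, `im X = im A`: `X = A` -/
theorem eq_of_im {A X : Subgroup G} (hA : A ≤ L) (hX : X ≤ A) (hc : A ⊓ centralizer (U : Set G) ≤ X)
    (h : im Q X = im Q A) : X = A := by
  refine le_antisymm hX fun a ha => ?_
  have h1 : ph Q ⟨a, hA ha⟩ ∈ im Q X := by
    rw [h]
    exact ph_mem_im Q ha
  obtain ⟨x, hx, h2⟩ := h1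
  have hx' : (x : G) ∈ X := hx
  have h3 : (⟨a, hA ha⟩ * x⁻¹ : L) ∈ (ph Q).ker := by
    rw [MonoidHom.mem_ker, map_mul, map_inv, h2, mul_inv_cancel]
  have h4 : a * (x : G)⁻¹ ∈ centralizer (U : Set G) := (mem_ker Q).1 h3
  have h5 : a * (x : G)⁻¹ ∈ X := hc (mem_inf.2 ⟨A.mul_mem ha (A.inv_mem (hX hx')), h4⟩)
  have h6 := mul_mem h5 hx'
  rwa [inv_mul_cancel_right] at h6

theorem xa_mono [Finite G] {A X : Subgroup G} (hA : A ≤ L) (hX : X ≤ A) (hc : A ⊓ centralizer (U : Set G) ≤ X)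
    (h : Xa Q.Mod (im Q A))
    (hn : Nat.card A * Nat.card ↥(U ⊓ centralizer (A : Set G)) ≤ Nat.card X * Nat.card ↥(U ⊓ centralizer (X : Set G))) :
    Xa Q.Mod (im Q X) := by
  unfold Xa at h ⊢
  have hXL := hX.trans hA
  rw [InstB.card_fxd_im Q hA] at h
  rw [InstB.card_fxd_im Q hXL]
  have e : X ⊓ centralizer (U : Set G) = A ⊓ centralizer (U : Set G) :=
    le_antisymm (inf_le_inf_right _ hX) (le_inf hc inf_le_right)
  have h1 := card_im Q hA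
  have h2 := card_im Q hXL
  rw [e] at h2
  rw [← h1, ← h2] at hn
  refine h.trans ?_
  refine Nat.le_of_mul_le_mul_right ?_ (Nat.card_pos : 0 < Nat.card ↥(A ⊓ centralizer (U : Set G)))
  calc _ = Nat.card (im Q A) * Nat.card ↥(A ⊓ centralizer (U : Set G)) * Nat.card ↥(U ⊓ centralizer (A : Set G)) := by
        ring
    _ ≤ _ := hn
    _ = _ := by ring

end basic

/-- **the field `sg`** -/
theorem sg [Finite G] (hc : IsCharacteristicTwoType G) {S : Sylow 2 G} {L P : Subgroup G}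
    (Q : Nrm L (zl (S : Subgroup G) L)) (hP : IsParS (S : Subgroup G) P) (hPL : P ≤ L)
    (hno : NoOverM (zl (S : Subgroup G) L) L)
    (pf : ConclM (S : Subgroup G) P → Pf (S : Subgroup G) P (zl (S : Subgroup G) P) (zl (S : Subgroup G) L)) :
    ∀ A ≤ im Q (S : Subgroup G), El A → Xa Q.Mod A → ¬ Fx (Q.ad (zl (S : Subgroup G) P)) A →
    (∃ X ≤ A, ∃ Y ≤ A, X ≠ A ∧ Y ≠ A ∧ Xa Q.Mod X ∧ Xa Q.Mod Y ∧ X ⊔ Y = A) ∨
      (∀ a ∈ A, (¬ ∀ w ∈ Q.ad (zl (S : Subgroup G) P), a • w = w) →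
        ∀ w ∈ Q.ad (zl (S : Subgroup G) P), a • w = w → w ∈ (fxd A : AddSubgroup Q.Mod)) := by
  intro A' hA' hE hX hF
  obtain ⟨A, hA, rfl⟩ := InstB.exists_im Q hA'
  have hAL : A ≤ L := (hA.trans hP.le).trans hPL
  have hWU : zl (S : Subgroup G) P ≤ zl (S : Subgroup G) L := NOThreeL.Star.zl_mono _ hPL
  have hcomm : zl (S : Subgroup G) L ≤ centralizer (zl (S : Subgroup G) L : Set G) := fun x hx =>
    mem_centralizer_iff.2 fun y hy => Q.ab y hy x hx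
  have hEM := InstB.elemM_of Q hAL hE
  have hex := InstB.exa_of Q hAL hno hEM hX
  have hne : ¬ A ≤ centralizer (zl (S : Subgroup G) P : Set G) := fun h => hF ((InstB.fx_im Q hWU hAL).2 h)
  obtain ⟨-, -, hoff, hconcl, -⟩ := exact_split hc hP hPL hno hcomm hA hEM hex hne
  rcases (pf hconcl).sg A hA hoff with ⟨X, hXA, Y, hYA, hcX, hcY, hXne, hYne, hnX, hnY, hXY⟩ | h
  · left
    refine ⟨im Q X, im_mono Q hXA, im Q Y, im_mono Q hYA, fun h => hXne (eq_of_im Q hAL hXA hcX h),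
      fun h => hYne (eq_of_im Q hAL hYA hcY h), xa_mono Q hAL hXA hcX hX hnX, xa_mono Q hAL hYA hcY hX hnY, ?_⟩
    refine le_antisymm (sup_le (im_mono Q hXA) (im_mono Q hYA)) ?_
    apply im_le_of
    refine hXY.trans (sup_le ?_ ?_)
    · intro x hx
      exact ⟨⟨x, hAL (hXA hx)⟩, mem_sup_left (ph_mem_im Q hx), rfl⟩
    · intro x hx
      exact ⟨⟨x, hAL (hYA hx)⟩, mem_sup_right (ph_mem_im Q hx), rfl⟩
  · right
    rintro _ ⟨a, ha, rfl⟩ h1 w hw h2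
    have h3 : (a : G) ∉ centralizer (zl (S : Subgroup G) P : Set G) := by
      intro h4
      apply h1
      intro v hv
      rw [ph_smul, smul_eq_iff, mul_inv_eq_iff_eq_mul]
      exact (mem_centralizer_iff.1 h4 _ hv).symm
    rw [ph_smul, smul_eq_iff, mul_inv_eq_iff_eq_mul] at h2
    rw [fxd_im Q hAL, mem_centralizer_iff]
    exact fun c hc' => h a ha h3 _ hw h2 c hc'

end Cfsg.Agent.Omega.NOThreeL.RRed.Ex.Sg

end

section


/-!
# NO-3L, box R: THEOREM EX (#26554), dictionary (text: helper245, #27096 (4))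

`Q : Nrm H U`, `M = Q.Mod` (`U` written additively), `im Q A` the image of `A ≤ H` in `XH Q`.

* `pre Q S A'` : the preimage of `A'` in `S`; `im_pre : A' ≤ im Q S → im Q (pre Q S A') = A'`;
* `im_eq_bot`, `im_le_im`, `im_inf`;
* `fx_ad`, `cw_ad`, `ad_le_fxd`, `fxd_eq_ad` : action on `Q.ad X`, `X ≤ U`;
* `el_iff`, `xa_iff`, `mn_iff` : `El`, `Xa`, `Mn` of `im Q A` and `ElemM`, `Exa`, `Mx` of `A`;
* `sit` : `Sit Q.Mod ⊤`; `inv_ad` : `Q.ad D` is invariant.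
-/

set_option autoImplicit false
set_option linter.unusedSectionVars false

namespace Cfsg.Agent.Omega.NOThreeL.RRed.Ex.Dict

open Subgroup Cfsg Cfsg.Agent.ZN
open Cfsg.Agent.Omega.FFThm
open Cfsg.Agent.Omega.NOThreeL.RSplit (Nrm)
open Cfsg.Agent.Omega.NOThreeL.RRed.NS (fxd brk mem_fxd smul_eq_iff conj_eq_cj)
open Cfsg.Agent.Omega.NOThreeL.RRed.Blk.Types (Sit El)
open Cfsg.Agent.Omega.NOThreeL.RRed.Blk.TypesNat (XH ph ph_smul XH_faith ph_eq ph_surj no_XH mem_ker)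
open Cfsg.Agent.Omega.NOThreeL.RRed.Blk.AsmCore (im mem_im ph_mem_im im_mono im_cj card_im fxd_im)
open Cfsg.Agent.Omega.NOThreeL.RRed.Blk.AsmEsB (fxd_card lift el_im exact_iff card_mod)
open scoped Pointwise

universe u

variable {G : Type u} [Group G] {H U S A B X : Subgroup G} (Q : Nrm H U)

/-! ### images and preimages -/

/-- the preimage of `A'` in `S` -/
def pre (S : Subgroup G) (A' : Subgroup (XH Q)) : Subgroup G := S ⊓ (A'.comap (ph Q)).map H.subtype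

theorem pre_le {A' : Subgroup (XH Q)} : pre Q S A' ≤ S := inf_le_left

theorem pre_le_H {A' : Subgroup (XH Q)} : pre Q S A' ≤ H := by
  rintro _ ⟨-, a, -, rfl⟩
  exact a.2

theorem mem_pre {A' : Subgroup (XH Q)} {x : G} : x ∈ pre Q S A' ↔ x ∈ S ∧ ∃ hx : x ∈ H, ph Q ⟨x, hx⟩ ∈ A' := by
  constructor
  · rintro ⟨h1, a, ha, rfl⟩
    exact ⟨h1, a.2, ha⟩
  · rintro ⟨h1, hx, h2⟩
    exact ⟨h1, ⟨x, hx⟩, h2, rfl⟩

theorem im_pre {A' : Subgroup (XH Q)} (h : A' ≤ im Q S) : im Q (pre Q S A') = A' := by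
  apply le_antisymm
  · rintro _ ⟨a, ha, rfl⟩
    exact ((mem_pre Q).1 ha).2.choose_spec
  · intro x hx
    obtain ⟨a, ha, rfl⟩ := h hx
    exact ⟨a, (mem_pre Q).2 ⟨ha, a.2, hx⟩, rfl⟩

/-- every subgroup of `im Q S` is `im Q A`, `A ≤ S` -/
theorem exists_im {A' : Subgroup (XH Q)} (h : A' ≤ im Q S) : ∃ A ≤ S, A ≤ H ∧ im Q A = A' :=
  ⟨pre Q S A', pre_le Q, pre_le_H Q, im_pre Q h⟩

theorem ph_one {x : H} : ph Q x = 1 ↔ (x : G) ∈ centralizer (U : Set G) :=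
  MonoidHom.mem_ker.symm.trans (mem_ker Q)

theorem im_eq_bot (hA : A ≤ H) : im Q A = ⊥ ↔ A ≤ centralizer (U : Set G) := by
  constructor
  · intro h a ha
    have h1 : ph Q ⟨a, hA ha⟩ ∈ im Q A := ph_mem_im Q (a := ⟨a, hA ha⟩) ha
    rw [h, mem_bot] at h1
    exact (ph_one Q).1 h1
  · intro h
    rw [eq_bot_iff]
    rintro _ ⟨a, ha, rfl⟩
    exact (ph_one Q).2 (h ha)

/-- the image of a member of `A` in `im Q B` : it lies in `B C_H(U)` -/
theorem ph_mem_iff {x : H} : ph Q x ∈ im Q B ↔ ∃ b : H, (b : G) ∈ B ∧ (b : G)⁻¹ * x ∈ centralizer (U : Set G) := by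
  constructor
  · rintro ⟨b, hb, h1⟩
    refine ⟨b, hb, ?_⟩
    have h2 : ph Q (b⁻¹ * x) = 1 := by rw [map_mul, map_inv, h1, inv_mul_cancel]
    exact (ph_one Q).1 h2
  · rintro ⟨b, hb, h1⟩
    have h2 : ph Q (b⁻¹ * x) = 1 := (ph_one Q).2 h1
    rw [map_mul, map_inv, inv_mul_eq_one] at h2
    exact ⟨b, hb, h2⟩

/-- `B` contains the kernel in `A`: `im Q A ≤ im Q B` implies `A ≤ B`. -/
theorem le_of_im (hA : A ≤ H) (hB : B ≤ A) (hk : A ⊓ centralizer (U : Set G) ≤ B) (h : im Q A ≤ im Q B) : A ≤ B := by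
  intro a ha
  obtain ⟨b, hb, h1⟩ := (ph_mem_iff Q).1 (h (ph_mem_im Q (a := ⟨a, hA ha⟩) ha))
  have h2 : (b : G)⁻¹ * a ∈ B := hk (mem_inf.2 ⟨mul_mem (inv_mem (hB hb)) ha, h1⟩)
  have h3 := mul_mem hb h2
  rwa [mul_inv_cancel_left] at h3

/-! ### the action on `Q.ad X` -/

theorem fx_ad (hX : X ≤ U) (hA : A ≤ H) : Fx (Q.ad X) (im Q A) ↔ A ≤ centralizer (X : Set G) := by
  constructor
  · intro h a ha
    rw [mem_centralizer_iff]
    intro x hx
    have h1 := h _ (ph_mem_im Q (a := ⟨a, hA ha⟩) ha) (Q.of x (hX hx)) hx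
    rw [ph_smul, smul_eq_iff, Nrm.val_of, mul_inv_eq_iff_eq_mul] at h1
    exact h1.symm
  · rintro h _ ⟨a, ha, rfl⟩ m hm
    rw [ph_smul, smul_eq_iff, mul_inv_eq_iff_eq_mul]
    exact (mem_centralizer_iff.1 (h ha) _ hm).symm

theorem cw_ad (hX : X ≤ U) : cw (Q.ad X) (im Q A) = im Q (A ⊓ centralizer (X : Set G)) := by
  ext x
  rw [mem_cw]
  constructor
  · rintro ⟨⟨a, ha, rfl⟩, h1⟩
    refine ph_mem_im Q (mem_inf.2 ⟨ha, mem_centralizer_iff.2 ?_⟩)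
    intro x hx
    have h2 := h1 (Q.of x (hX hx)) hx
    rw [ph_smul, smul_eq_iff, Nrm.val_of, mul_inv_eq_iff_eq_mul] at h2
    exact h2.symm
  · rintro ⟨a, ha, rfl⟩
    refine ⟨ph_mem_im Q ha.1, fun m hm => ?_⟩
    rw [ph_smul, smul_eq_iff, mul_inv_eq_iff_eq_mul]
    exact (mem_centralizer_iff.1 ha.2 _ hm).symm

theorem ad_le_fxd (hX : X ≤ U) (hA : A ≤ H) :
    Q.ad X ≤ (fxd (im Q A) : AddSubgroup Q.Mod) ↔ A ≤ centralizer (X : Set G) := by
  rw [← fx_ad Q hX hA]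
  exact ⟨fun h a ha w hw => h hw a ha, fun h w hw a ha => h a ha w hw⟩

theorem fxd_eq_ad (hA : A ≤ H) : (fxd (im Q A) : AddSubgroup Q.Mod) = Q.ad (U ⊓ centralizer (A : Set G)) := by
  ext m
  rw [Nrm.mem_ad, mem_inf, fxd_im Q hA]
  exact ⟨fun h => ⟨Q.val_mem m, h⟩, fun h => h.2⟩

/-- `Q.ad D` is invariant -/
theorem inv_ad {D : Subgroup G} (hD : H ≤ normalizer (D : Set G)) : ∀ h : XH Q, ∀ u ∈ Q.ad D, h • u ∈ Q.ad D := by
  intro h u hu
  obtain ⟨x, rfl⟩ := ph_surj Q h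
  rw [ph_smul, Nrm.mem_ad, Nrm.val_smul]
  exact (mem_normalizer_iff.1 (hD x.2) _).1 hu

/-! ### `El`, `Xa`, `Mn` -/

theorem el_iff (hA : A ≤ H) : El (im Q A) ↔ ElemM U A := by
  refine ⟨fun h => ⟨fun a ha => ?_, fun a ha b hb => ?_⟩, el_im Q⟩
  · have h1 := h.sq _ (ph_mem_im Q (a := ⟨a, hA ha⟩) ha)
    rw [← map_mul] at h1
    rw [pow_two]
    exact (ph_one Q).1 h1
  · have h1 := h.cm _ (ph_mem_im Q (a := ⟨a, hA ha⟩) ha) _ (ph_mem_im Q (a := ⟨b, hA hb⟩) hb)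
    have h2 : ph Q (⟨a, hA ha⟩ * ⟨b, hA hb⟩ * ⟨a, hA ha⟩⁻¹ * ⟨b, hA hb⟩⁻¹) = 1 := by
      rw [map_mul, map_mul, map_mul, map_inv, map_inv, h1]
      group
    exact (ph_one Q).1 h2

section fin

variable [Finite G]

/-- a lower bound is enough -/
theorem exa_iff_le (hno : NoOverM U H) (hA : A ≤ H) (hE : ElemM U A) :
    Exa U A ↔ Nat.card U * Nat.card ↥(A ⊓ centralizer (U : Set G)) ≤ Nat.card A * Nat.card ↥(U ⊓ centralizer (A : Set G)) :=
  ⟨fun h => (show _ = _ from h).le, fun h => le_antisymm h (hno A hA hE)⟩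

theorem xa_of (hA : A ≤ H) (h : Exa U A) : Xa Q.Mod (im Q A) := ((exact_iff Q hA).1 h).ge

theorem xa_iff (hno : NoOverM U H) (hA : A ≤ H) (hE : ElemM U A) : Xa Q.Mod (im Q A) ↔ Exa U A := by
  refine ⟨fun h => (exa_iff_le hno hA hE).2 ?_, xa_of Q hA⟩
  have h' : Nat.card Q.Mod ≤ Nat.card (im Q A) * Nat.card (fxd (im Q A) : AddSubgroup Q.Mod) := h
  rw [fxd_card Q hA, ← card_im Q hA, ← card_mod Q]
  calc Nat.card Q.Mod * Nat.card ↥(A ⊓ centralizer (U : Set G))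
      ≤ Nat.card (im Q A) * Nat.card (fxd (im Q A) : AddSubgroup Q.Mod) * Nat.card ↥(A ⊓ centralizer (U : Set G)) :=
        Nat.mul_le_mul_right _ h'
    _ = _ := by ring

theorem mn_of (hno : NoOverM U H) (hA : A ≤ H) (h : Mx U A) : Mn Q.Mod (im Q A) where
  el := el_im Q h.toElemM
  ex := xa_of Q hA h.exact
  ne := fun h1 => h.ne ((im_eq_bot Q hA).1 h1)
  min := by
    intro B' hB' hX
    obtain ⟨B, hBA, hcB, rfl⟩ := lift Q hA hB'
    have hBH := hBA.trans hA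
    rcases h.min B hBA ((xa_iff Q hno hBH (VF.elemM_mono h.toElemM hBA)).1 hX) hcB with h1 | h1
    · exact Or.inl ((im_eq_bot Q hBH).2 h1)
    · exact Or.inr (by rw [h1])

theorem mx_of (hno : NoOverM U H) (hA : A ≤ H) (hp : IsPGroup 2 A) (h : Mn Q.Mod (im Q A)) : Mx U A where
  toElemM := (el_iff Q hA).1 h.el
  pg := hp
  ne := fun h1 => h.ne ((im_eq_bot Q hA).2 h1)
  exact := (xa_iff Q hno hA ((el_iff Q hA).1 h.el)).1 h.ex
  min := by
    intro B hBA hX hk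
    have hBH := hBA.trans hA
    rcases h.min _ (im_mono Q hBA) (xa_of Q hBH hX) with h1 | h1
    · exact Or.inl ((im_eq_bot Q hBH).1 h1)
    · exact Or.inr (le_antisymm hBA (le_of_im Q hA hBA hk h1.ge))

theorem mn_iff (hno : NoOverM U H) (hA : A ≤ H) (hp : IsPGroup 2 A) : Mn Q.Mod (im Q A) ↔ Mx U A :=
  ⟨mx_of Q hno hA hp, mn_of Q hno hA⟩

/-- **`Sit`.** -/
theorem sit (hno : NoOverM U H) (h2 : ∀ v ∈ U, v * v = 1) : Sit Q.Mod (⊤ : Subgroup (XH Q)) where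
  faith := fun x _ hx => XH_faith Q x hx
  ch := fun v => Nrm.ext (by
    rw [Nrm.val_add, Nrm.val_zero]
    exact h2 _ (Q.val_mem v))
  no := fun F _ h1 h3 => by
    have h4 := no_XH Q hno F (fun x hx y hy => h3 x hx y hy) (fun x hx => h1 x hx)
    rw [← AddSubgroup.card_mul_index (fxd F : AddSubgroup Q.Mod), mul_comm]
    exact Nat.mul_le_mul_left _ h4

end fin

/-! ### conjugates -/

theorem im_conj {A' : Subgroup (XH Q)} (hA' : A' ≤ im Q S) (h : H) :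
    MulAut.conj (ph Q h) • A' = im Q (MulAut.conj (h : G) • pre Q S A') := by
  rw [im_cj, im_pre Q hA']

end Cfsg.Agent.Omega.NOThreeL.RRed.Ex.Dict

end

section


/-!
# NO-3L, box R: THEOREM EX (#26554), the instance of `Gy`: the fields `one` and `quad` (text: helper245)

`U = zl S L`, `P ∈ P*(S)`, `P ≤ L`, `A ≤ S` a minimal exact group on `U` which moves `V_P`.

* `cases_of` : `A` is a root group of a natural block (`One`) or generated by a transposition (`OneS`) modulo `C(U)`;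
* `oneN`, `oneS` : `b ∈ A`, `b ∉ C(U)`: `C_U(b) = C_U(A)`;
* `cenS`, `quadN`, `quadS` : all minimal exact groups in `S` centralise `[U, A]`;
* **`one`**, **`quad`** : the fields.
-/

set_option autoImplicit false
set_option linter.unusedSectionVars false

namespace Cfsg.Agent.Omega.NOThreeL.RRed.Ex.OneQuad

open Subgroup Cfsg Cfsg.Agent.ZN Cfsg.Agent.Omega.MinPar
open Cfsg.Agent.Omega.FFThm Cfsg.Agent.Lib.SL2Mat
open Cfsg.Agent.Omega.FrameFF (cv)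
open Cfsg.Agent.Omega.NatPair (ap)
open Cfsg.Agent.Omega.NO3S.ThmB Cfsg.Agent.Omega.NO3S.KeyRad
open Cfsg.Agent.Omega.NOThreeL.RSplit (Nrm)
open Cfsg.Agent.Omega.NOThreeL.RRed.NS (fxd brk mem_fxd smul_eq_iff Tt tt_of_mx)
open Cfsg.Agent.Omega.NOThreeL.RRed.Blk.TypesNat (XH ph ph_smul ph_eq)
open Cfsg.Agent.Omega.NOThreeL.RRed.Blk.AsmCore (im mem_im ph_mem_im fxd_im)
open Cfsg.Agent.Omega.NOThreeL.RRed.Blk.Types (El brk_le)
open scoped Pointwise

universe u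

variable {G : Type u} [Group G]

/-! ### `b ∈ A`, `b ∉ C(U)` -/

section nat

variable {F : Type} [Field F] [CharP F 2] {S P V D U A : Subgroup G} {k : ℕ} {M : NatKM F S P V D k} (h : Nb M)
  {i : Fin k} (O : One M U A i)
include h O

/-- `C_U(b) = C_U(A)`, natural type -/
theorem oneN (hAP : A ≤ P) {b u : G} (hb : b ∈ A) (hbU : b ∉ centralizer (U : Set G)) (hu : u ∈ U)
    (hbu : b * u = u * b) : ∀ a ∈ A, a * u = u * a := by
  obtain ⟨β, hβ⟩ := O.act b hb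
  have hβ0 : β ≠ 0 := by
    rintro rfl
    refine hbU (mem_centralizer_iff.2 fun w hw => ?_)
    obtain ⟨v, hv, -, c, hc, hca, rfl⟩ := O.full w hw
    have e : (sg i (up (0 : F)) : Fin k → Matrix.SpecialLinearGroup (Fin 2) F) = 1 := by
      funext l
      by_cases hl : l = i
      · rw [hl, sg_self, up_zero]; rfl
      · rw [sg_ne hl]; rfl
    rw [e] at hβ
    have h1 : Commute b v := h.comm_of_one (hAP hb) hβ hv
    exact (h1.mul_right (hca b hb)).eq.symm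
  obtain ⟨v, hv, -, c, hc, hca, rfl⟩ := O.full u hu
  have hbc : Commute b c := hca b hb
  have hbv : Commute b v := by
    have h1 : Commute b (v * c) := hbu
    have h2 : Commute b (v * c * c⁻¹) := h1.mul_right hbc.inv_right
    rwa [mul_inv_cancel_right] at h2
  have h1 := hβ.1 v hv i
  have h2 : b * v * b⁻¹ = v := by rw [hbv.eq]; group
  rw [h2, sg_self] at h1
  have h3 := congrFun h1 0
  rw [ap_up_0] at h3
  have h4 : β * M.e v i 1 = 0 := left_eq_add.1 h3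
  have h5 : M.e v i 1 = 0 := (mul_eq_zero.1 h4).resolve_left hβ0
  intro a ha
  exact (show Commute a v from (O.cen v hv).2 h5 a ha).mul_right (hca a ha)

end nat

section sym

variable {S P V D U A : Subgroup G} {k m : ℕ} {M : SymKM S P V D k m} {i : Fin k} {x y : Fin (2 ^ m + 1)} {t n0 : G}
  (O : OneS M U A i x y t n0)
include O

theorem act_t {b u : G} (hb : b ∈ A) (hbU : b ∉ centralizer (U : Set G)) (hu : u ∈ U) (hbu : b * u = u * b) :
    t * u = u * t := by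
  have h1 : t⁻¹ * b ∈ centralizer (U : Set G) := (O.act b hb).resolve_left hbU
  have h2 : Commute (t⁻¹ * b) u := (mem_centralizer_iff.1 h1 u hu).symm
  have h3 : Commute b u := hbu
  have h4 : Commute (b * (t⁻¹ * b)⁻¹) u := h3.mul_left h2.inv_left
  have e : b * (t⁻¹ * b)⁻¹ = t := by group
  rw [e] at h4
  exact h4

theorem all_of_t {u : G} (hu : u ∈ U) (htu : t * u = u * t) : ∀ a ∈ A, a * u = u * a := by
  intro a ha
  rcases O.act a ha with h1 | h1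
  · exact (mem_centralizer_iff.1 h1 u hu).symm
  · have h2 : Commute (t⁻¹ * a) u := (mem_centralizer_iff.1 h1 u hu).symm
    have h3 : Commute t u := htu
    have h4 : Commute (t * (t⁻¹ * a)) u := h3.mul_left h2
    rw [mul_inv_cancel_left] at h4
    exact h4

/-- `C_U(b) = C_U(A)`, symmetric type -/
theorem oneS {b u : G} (hb : b ∈ A) (hbU : b ∉ centralizer (U : Set G)) (hu : u ∈ U)
    (hbu : b * u = u * b) : ∀ a ∈ A, a * u = u * a :=
  all_of_t O hu (act_t O hb hbU hu hbu)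

/-! ### `[U, A]` -/

variable (h : Sb M) (hU2 : IsElementaryAbelian 2 U) (hVU : V ≤ U) (hPU : P ≤ normalizer (U : Set G))
  (hE : ElemM U A)
include h hU2 hVU hPU hE

/-- an element of `P` which fixes `0` and fixes or interchanges `x`, `y` commutes with `[t, n₀]` -/
theorem cenS {g : G} (hg : g ∈ P) {τ : Fin k → Equiv.Perm (Fin (2 ^ m + 1))} (hτ : Ac M g τ) (h0 : τ i 0 = 0)
    (hxy : (τ i x = x ∧ τ i y = y) ∨ (τ i x = y ∧ τ i y = x)) :
    g * (t * n0 * t⁻¹ * n0⁻¹) = t * n0 * t⁻¹ * n0⁻¹ * g := by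
  have htP : t ∈ P := h.SP' (O.AS O.tA)
  have hpx : pr i x y i x = y := by rw [pr, sg_self, Equiv.swap_apply_left]
  have hpy : pr i x y i y = x := by rw [pr, sg_self, Equiv.swap_apply_right]
  have hp0 : pr i x y i 0 = 0 := by
    rw [pr, sg_self, Equiv.swap_apply_of_ne_of_ne (Ne.symm O.x0) (Ne.symm O.y0)]
  have hpi : ((pr i x y)⁻¹ : Fin k → Equiv.Perm (Fin (2 ^ m + 1))) i = pr i x y i := by
    rw [Pi.inv_apply, pr, sg_self, Equiv.swap_inv]
  -- first case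
  have key : ∀ g ∈ P, ∀ τ : Fin k → Equiv.Perm (Fin (2 ^ m + 1)), Ac M g τ → τ i 0 = 0 → τ i x = x → τ i y = y →
      Commute g (t * n0 * t⁻¹ * n0⁻¹) := by
    intro g hg τ hτ h0 hx hy
    have h1 : Commute g n0 := O.fix g hg τ hτ hx hy h0
    have h2 : Commute (t⁻¹ * g * t) n0 := by
      refine O.fix _ (mul_mem (mul_mem (inv_mem htP) hg) htP) ((pr i x y)⁻¹ * τ * pr i x y)
        (h.ac_mul htP (h.ac_mul hg (h.ac_inv htP O.tt) hτ) O.tt) ?_ ?_ ?_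
      · rw [Pi.mul_apply, Pi.mul_apply, hpi, Equiv.Perm.mul_apply, Equiv.Perm.mul_apply, hpx, hy, hpy]
      · rw [Pi.mul_apply, Pi.mul_apply, hpi, Equiv.Perm.mul_apply, Equiv.Perm.mul_apply, hpy, hx, hpx]
      · rw [Pi.mul_apply, Pi.mul_apply, hpi, Equiv.Perm.mul_apply, Equiv.Perm.mul_apply, hp0, h0, hp0]
    have h3 : Commute g (t * n0 * t⁻¹) := by
      have e := h2.eq
      have e1 : g * (t * n0 * t⁻¹) = t * (t⁻¹ * g * t * n0) * t⁻¹ := by group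
      have e2 : t * n0 * t⁻¹ * g = t * (n0 * (t⁻¹ * g * t)) * t⁻¹ := by group
      show g * (t * n0 * t⁻¹) = t * n0 * t⁻¹ * g
      rw [e1, e2, e]
    exact h3.mul_right h1.inv_right
  -- `t` commutes with `[t, n₀]`
  have hn : n0 ∈ U := hVU O.nV
  have htn : t * n0 * t⁻¹ ∈ U := (mem_normalizer_iff.1 (hPU htP) n0).1 hn
  have ht2 : t * (t * n0 * t⁻¹) * t⁻¹ = n0 := by
    have h1 : t ^ 2 ∈ centralizer (U : Set G) := hE.sq t O.tA
    have h2 := mem_centralizer_iff.1 h1 n0 hn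
    have e : t * (t * n0 * t⁻¹) * t⁻¹ = t ^ 2 * n0 * (t ^ 2)⁻¹ := by rw [pow_two]; group
    rw [e, ← h2]
    group
  have hab : ∀ v ∈ U, ∀ w ∈ U, v * w = w * v := fun v hv w hw => elem_comm hU2 hv hw
  have hsq : ∀ v ∈ U, v⁻¹ = v := fun v hv => by
    have h1 := hU2.2 v hv
    rw [pow_two] at h1
    exact inv_eq_of_mul_eq_one_left h1
  have htc : Commute t (t * n0 * t⁻¹ * n0⁻¹) := by
    have e : t * (t * n0 * t⁻¹ * n0⁻¹) * t⁻¹ = t * n0 * t⁻¹ * n0⁻¹ := by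
      have e1 : t * (t * n0 * t⁻¹ * n0⁻¹) * t⁻¹ = t * (t * n0 * t⁻¹) * t⁻¹ * (t * n0 * t⁻¹)⁻¹ := by group
      rw [e1, ht2, hsq _ htn, hsq _ hn]
      exact hab _ hn _ htn
    have e2 := mul_inv_eq_iff_eq_mul.1 e
    exact e2
  rcases hxy with ⟨hx, hy⟩ | ⟨hx, hy⟩
  · exact key g hg τ hτ h0 hx hy
  · have h1 := key (t⁻¹ * g) (mul_mem (inv_mem htP) hg) ((pr i x y)⁻¹ * τ) (h.ac_mul hg (h.ac_inv htP O.tt) hτ)
      (by rw [Pi.mul_apply, hpi, Equiv.Perm.mul_apply, h0, hp0])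
      (by rw [Pi.mul_apply, hpi, Equiv.Perm.mul_apply, hx, hpy])
      (by rw [Pi.mul_apply, hpi, Equiv.Perm.mul_apply, hy, hpx])
    have h2 : Commute (t * (t⁻¹ * g)) (t * n0 * t⁻¹ * n0⁻¹) := htc.mul_left h1
    rw [mul_inv_cancel_left] at h2
    exact h2

/-- `[a, u]` is `1` or `[t, n₀]` -/
theorem commS {a u : G} (ha : a ∈ A) (hu : u ∈ U) :
    a * u * a⁻¹ * u⁻¹ = 1 ∨ a * u * a⁻¹ * u⁻¹ = t * n0 * t⁻¹ * n0⁻¹ := by
  have hn : n0 ∈ U := hVU O.nV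
  have hab : ∀ v ∈ U, ∀ w ∈ U, v * w = w * v := fun v hv w hw => elem_comm hU2 hv hw
  rcases O.act a ha with h1 | h1
  · left
    rw [← mem_centralizer_iff.1 h1 u hu]
    group
  · rcases O.full u hu with h2 | h2
    · left
      rw [h2 a ha]
      group
    · right
      have h3 : Commute t (n0⁻¹ * u) := h2 t O.tA
      have h5 : Commute (t⁻¹ * a) u := (mem_centralizer_iff.1 h1 u hu).symm
      -- `[a, u] = [t, u]`
      have e1 : a * u * a⁻¹ = t * u * t⁻¹ := by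
        have e : a = t * (t⁻¹ * a) := by group
        calc a * u * a⁻¹ = t * ((t⁻¹ * a) * u) * (t⁻¹ * a)⁻¹ * t⁻¹ := by group
          _ = t * (u * (t⁻¹ * a)) * (t⁻¹ * a)⁻¹ * t⁻¹ := by rw [h5.eq]
          _ = t * u * t⁻¹ := by group
      have e2 : t * u * t⁻¹ * u⁻¹ = t * n0 * t⁻¹ * n0⁻¹ := by
        calc t * u * t⁻¹ * u⁻¹ = t * n0 * t⁻¹ * (t * (n0⁻¹ * u) * t⁻¹) * u⁻¹ := by group
          _ = t * n0 * t⁻¹ * (n0⁻¹ * u * t * t⁻¹) * u⁻¹ := by rw [h3.eq]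
          _ = t * n0 * t⁻¹ * n0⁻¹ := by group
      rw [e1, e2]

/-- all smallest best offenders in `S` centralise `[U, A]` -/
theorem quadS [Finite G] {B : Subgroup G} (hBS : B ≤ S) (tB : Tt U B) {b a u : G} (hb : b ∈ B) (ha : a ∈ A) (hu : u ∈ U) :
    b * (a * u * a⁻¹ * u⁻¹) = a * u * a⁻¹ * u⁻¹ * b := by
  rcases commS O h hU2 hVU hPU hE ha hu with e | e
  · rw [e, mul_one, one_mul]
  · rw [e]
    by_cases hBV : B ≤ centralizer (V : Set G)
    · have htP : t ∈ P := h.SP' (O.AS O.tA)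
      have h1 : t * n0 * t⁻¹ * n0⁻¹ ∈ V :=
        mul_mem ((mem_normalizer_iff.1 (h.VP' htP) n0).1 O.nV) (inv_mem O.nV)
      exact (mem_centralizer_iff.1 (hBV hb) _ h1).symm
    · obtain ⟨τ, hτ, h0, hτ'⟩ := NS.off_elem' hBS (tB.offM hU2 hVU hBV) hb
      exact cenS O h hU2 hVU hPU hE (h.SP' (hBS hb)) hτ (h0 i) (NS.keep' h hBS hτ' (O.AS O.tA) O.xy O.tt.1)

end sym

/-! ### The fields -/

section fields

variable [Finite G] {S : Sylow 2 G} {L P : Subgroup G}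

/-- **The two types.** -/
theorem cases_of (hc : IsCharacteristicTwoType G) (hL : IsLoc (S : Subgroup G) L) (hP : IsParS (S : Subgroup G) P)
    (hPL : P ≤ L) (no : NoOverM (zl (S : Subgroup G) L) L) {A : Subgroup G} (hA : A ≤ (S : Subgroup G))
    (hM : Mx (zl (S : Subgroup G) L) A) (hne : ¬ A ≤ centralizer (zl (S : Subgroup G) P : Set G)) :
    (∃ (F : Type) (_ : Field F) (_ : Finite F) (_ : CharP F 2) (k : ℕ)
      (M : NatKM F (S : Subgroup G) P (zl (S : Subgroup G) P) (cv (S : Subgroup G) P) k) (i : Fin k),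
      Nb M ∧ One M (zl (S : Subgroup G) L) A i) ∨
    ∃ (k m : ℕ) (M : SymKM (S : Subgroup G) P (zl (S : Subgroup G) P) (cv (S : Subgroup G) P) k m) (i : Fin k)
      (x y : Fin (2 ^ m + 1)) (t n0 : G), Sb M ∧ OneS M (zl (S : Subgroup G) L) A i x y t n0 := by
  have hE := FFThm.elem_zl hc S hL
  have hcomm : zl (S : Subgroup G) L ≤ centralizer (zl (S : Subgroup G) L : Set G) := fun x hx =>
    mem_centralizer_iff.2 fun y hy => congrArg Subtype.val (hE.1.is_comm.comm ⟨y, hy⟩ ⟨x, hx⟩)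
  obtain ⟨-, -, -, h3, -⟩ := exact_split hc hP hPL no hcomm hA hM.toElemM hM.exact hne
  have hVU : zl (S : Subgroup G) P ≤ zl (S : Subgroup G) L := Star.zl_mono _ hPL
  have t : Tt (zl (S : Subgroup G) L) A := tt_of_mx hM no ((hA.trans hP.le).trans hPL)
  rcases h3 with ⟨F, i1, i2, i3, k, -, ⟨M⟩⟩ | ⟨k, m, -, hm, ⟨M⟩⟩
  · left
    have h := NO3S.ThmB.Inst.nb hc hP M
    obtain ⟨i, O⟩ := t.one h hE hVU hA hne
    exact ⟨F, i1, i2, i3, k, M, i, h, O⟩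
  · right
    have h := NO3S.ThmB.Inst.sb hc hP hm M
    obtain ⟨i, x, y, t', n0, O⟩ := NS.Tt.oneS h t hE hVU hA hne
    exact ⟨k, m, M, i, x, y, t', n0, h, O⟩

/-- `C_U(b) = C_U(A)` -/
theorem one_grp (hc : IsCharacteristicTwoType G) (hL : IsLoc (S : Subgroup G) L) (hP : IsParS (S : Subgroup G) P)
    (hPL : P ≤ L) (no : NoOverM (zl (S : Subgroup G) L) L) {A : Subgroup G} (hA : A ≤ (S : Subgroup G))
    (hM : Mx (zl (S : Subgroup G) L) A) (hne : ¬ A ≤ centralizer (zl (S : Subgroup G) P : Set G)) {b u : G}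
    (hb : b ∈ A) (hbU : b ∉ centralizer (zl (S : Subgroup G) L : Set G)) (hu : u ∈ zl (S : Subgroup G) L)
    (hbu : b * u = u * b) : ∀ a ∈ A, a * u = u * a := by
  rcases cases_of hc hL hP hPL no hA hM hne with ⟨F, i1, i2, i3, k, M, i, h, O⟩ | ⟨k, m, M, i, x, y, t, n0, h, O⟩
  · exact oneN h O (hA.trans hP.le) hb hbU hu hbu
  · exact oneS O hb hbU hu hbu

/-- all minimal exact groups in `S` centralise `[U, A]` -/
theorem quad_grp (hc : IsCharacteristicTwoType G) (hL : IsLoc (S : Subgroup G) L) (hP : IsParS (S : Subgroup G) P)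
    (hPL : P ≤ L) (no : NoOverM (zl (S : Subgroup G) L) L) {A B : Subgroup G} (hA : A ≤ (S : Subgroup G))
    (hM : Mx (zl (S : Subgroup G) L) A) (hne : ¬ A ≤ centralizer (zl (S : Subgroup G) P : Set G))
    (hB : B ≤ (S : Subgroup G)) (hMB : Mx (zl (S : Subgroup G) L) B) {a b u : G}
    (ha : a ∈ A) (hb : b ∈ B) (hu : u ∈ zl (S : Subgroup G) L) :
    b * (a * u * a⁻¹ * u⁻¹) = a * u * a⁻¹ * u⁻¹ * b := by
  have hE := FFThm.elem_zl hc S hL
  have hVU : zl (S : Subgroup G) P ≤ zl (S : Subgroup G) L := Star.zl_mono _ hPL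
  have tB : Tt (zl (S : Subgroup G) L) B := tt_of_mx hMB no ((hB.trans hP.le).trans hPL)
  rcases cases_of hc hL hP hPL no hA hM hne with ⟨F, i1, i2, i3, k, M, i, h, O⟩ | ⟨k, m, M, i, x, y, t, n0, h, O⟩
  · exact NS.comm_Y h O hA hE hVU hB tB hb hu ha
  · exact quadS O h hE hVU (hPL.trans (le_normalizer_zl _ _)) hM.toElemM hB tB hb ha hu

variable (Q : Nrm L (zl (S : Subgroup G) L))

/-- **the field `one`** -/
theorem one (hc : IsCharacteristicTwoType G) (hL : IsLoc (S : Subgroup G) L) (hP : IsParS (S : Subgroup G) P)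
    (hPL : P ≤ L) (no : NoOverM (zl (S : Subgroup G) L) L) :
    ∀ B ≤ im Q (S : Subgroup G), Mn Q.Mod B → ¬ Fx (Q.ad (zl (S : Subgroup G) P)) B → ∀ b ∈ B, b ≠ 1 →
      ∀ m : Q.Mod, b • m = m → m ∈ (fxd B : AddSubgroup Q.Mod) := by
  intro B' hB' hMn hF b' hb' hb1 m hm
  obtain ⟨B, hBS, hBL, rfl⟩ := Dict.exists_im Q hB'
  have hVU : zl (S : Subgroup G) P ≤ zl (S : Subgroup G) L := Star.zl_mono _ hPL
  have hM := Dict.mx_of Q no hBL (S.isPGroup'.to_le hBS) hMn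
  have hne : ¬ B ≤ centralizer (zl (S : Subgroup G) P : Set G) := fun h => hF ((Dict.fx_ad Q hVU hBL).2 h)
  obtain ⟨b, hb, rfl⟩ := hb'
  have hbU : (b : G) ∉ centralizer (zl (S : Subgroup G) L : Set G) := fun h => hb1 ((Dict.ph_one Q).2 h)
  rw [ph_smul, smul_eq_iff, mul_inv_eq_iff_eq_mul] at hm
  rw [fxd_im Q hBL, mem_centralizer_iff]
  exact one_grp hc hL hP hPL no hBS hM hne hb hbU (Q.val_mem m) hm

/-- **the field `quad`** -/
theorem quad (hc : IsCharacteristicTwoType G) (hL : IsLoc (S : Subgroup G) L) (hP : IsParS (S : Subgroup G) P)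
    (hPL : P ≤ L) (no : NoOverM (zl (S : Subgroup G) L) L) :
    ∀ B ≤ im Q (S : Subgroup G), Mn Q.Mod B → ¬ Fx (Q.ad (zl (S : Subgroup G) P)) B →
      ∀ B' ≤ im Q (S : Subgroup G), Mn Q.Mod B' → brk Q.Mod B ≤ fxd B' := by
  intro A' hA' hMnA hF B' hB' hMnB
  obtain ⟨A, hAS, hAL, rfl⟩ := Dict.exists_im Q hA'
  obtain ⟨B, hBS, hBL, rfl⟩ := Dict.exists_im Q hB'
  have hVU : zl (S : Subgroup G) P ≤ zl (S : Subgroup G) L := Star.zl_mono _ hPL
  have hMA := Dict.mx_of Q no hAL (S.isPGroup'.to_le hAS) hMnA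
  have hMB := Dict.mx_of Q no hBL (S.isPGroup'.to_le hBS) hMnB
  have hne : ¬ A ≤ centralizer (zl (S : Subgroup G) P : Set G) := fun h => hF ((Dict.fx_ad Q hVU hAL).2 h)
  refine brk_le ?_
  rintro _ ⟨a, ha, rfl⟩ m
  rw [fxd_im Q hBL, mem_centralizer_iff]
  intro b hb
  rw [ph_smul, Nrm.val_sub, Nrm.val_smul]
  exact quad_grp hc hL hP hPL no hAS hMA hne hBS hMB ha hb (Q.val_mem m)

end fields

end Cfsg.Agent.Omega.NOThreeL.RRed.Ex.OneQuad

end

section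


/-!
# NO-3L, box R: THEOREM EX (#26554), the transfer of the facts about one parabolic: `out` and `pair` (text: helper245)

`Q : Nrm L (zl S L)`, `P ∈ P*(S)`, `P ≤ L`, `pf : ConclM S P → Pf S P (zl S P) (zl S L)`.

* `concl` : a minimal exact group which moves `V_P` gives `ConclM S P`;
* **`out`**, **`pair`** : the fields of `Inst.Gp` (the fields `one`, `quad` are in `Ex/OneQuad`).
-/

set_option autoImplicit false
set_option linter.unusedSectionVars false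

namespace Cfsg.Agent.Omega.NOThreeL.RRed.Ex.Tr1

open Subgroup Cfsg Cfsg.Agent.ZN Cfsg.Agent.Omega.MinPar
open Cfsg.Agent.Omega.FFThm
open Cfsg.Agent.Omega.NOThreeL.RSplit (Nrm)
open Cfsg.Agent.Omega.NOThreeL.RRed.NS (fxd brk mem_fxd smul_eq_iff Tt tt_of_mx)
open Cfsg.Agent.Omega.NOThreeL.RRed.Blk.TypesNat (XH ph ph_smul ph_eq)
open Cfsg.Agent.Omega.NOThreeL.RRed.Blk.AsmCore (im mem_im ph_mem_im fxd_im)
open scoped Pointwise

universe u

variable {G : Type u} [Group G] [Finite G] {S : Sylow 2 G} {L P : Subgroup G}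

theorem concl (hc : IsCharacteristicTwoType G) (Q : Nrm L (zl (S : Subgroup G) L)) (hP : IsParS (S : Subgroup G) P)
    (hPL : P ≤ L) (no : NoOverM (zl (S : Subgroup G) L) L) {A : Subgroup G} (hA : A ≤ (S : Subgroup G))
    (hM : Mx (zl (S : Subgroup G) L) A) (hne : ¬ A ≤ centralizer (zl (S : Subgroup G) P : Set G)) :
    ConclM (S : Subgroup G) P := by
  have hcomm : zl (S : Subgroup G) L ≤ centralizer (zl (S : Subgroup G) L : Set G) := fun x hx =>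
    mem_centralizer_iff.2 fun y hy => Q.ab y hy x hx
  exact (exact_split hc hP hPL no hcomm hA hM.toElemM hM.exact hne).2.2.2.1

variable (Q : Nrm L (zl (S : Subgroup G) L))

/-- the data of a member of `EE` -/
theorem data (hc : IsCharacteristicTwoType G) (hP : IsParS (S : Subgroup G) P)
    (hPL : P ≤ L) (no : NoOverM (zl (S : Subgroup G) L) L) {B' : Subgroup (XH Q)} (hB' : B' ≤ im Q (S : Subgroup G))
    (hMn : Mn Q.Mod B') (hF : ¬ Fx (Q.ad (zl (S : Subgroup G) P)) B') :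
    ∃ B ≤ (S : Subgroup G), B ≤ L ∧ im Q B = B' ∧ Tt (zl (S : Subgroup G) L) B ∧
      ¬ B ≤ centralizer (zl (S : Subgroup G) P : Set G) ∧ ConclM (S : Subgroup G) P := by
  obtain ⟨B, hBS, hBL, rfl⟩ := Dict.exists_im Q hB'
  have hVU : zl (S : Subgroup G) P ≤ zl (S : Subgroup G) L := Star.zl_mono _ hPL
  have hM := Dict.mx_of Q no hBL (S.isPGroup'.to_le hBS) hMn
  have hne : ¬ B ≤ centralizer (zl (S : Subgroup G) P : Set G) := fun h => hF ((Dict.fx_ad Q hVU hBL).2 h)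
  exact ⟨B, hBS, hBL, rfl, tt_of_mx hM no hBL, hne, concl hc Q hP hPL no hBS hM hne⟩

/-- **the field `out`** -/
theorem out (hc : IsCharacteristicTwoType G) (hP : IsParS (S : Subgroup G) P)
    (hPL : P ≤ L) (no : NoOverM (zl (S : Subgroup G) L) L)
    (pf : ConclM (S : Subgroup G) P → Pf (S : Subgroup G) P (zl (S : Subgroup G) P) (zl (S : Subgroup G) L)) :
    ∀ B ≤ im Q (S : Subgroup G), Mn Q.Mod B → ¬ Fx (Q.ad (zl (S : Subgroup G) P)) B → ∀ b ∈ B, ∀ m : Q.Mod,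
      b • m ≠ m → ∃ p ∈ im Q P, ∃ c ∈ B, (p * c * p⁻¹) • (b • m - m) ∉ (fxd B : AddSubgroup Q.Mod) := by
  intro B' hB' hMn hF b' hb' m hbm
  obtain ⟨B, hBS, hBL, rfl, t, hne, cl⟩ := data Q hc hP hPL no hB' hMn hF
  obtain ⟨b, hb, rfl⟩ := hb'
  have hbm' : (b : G) * Q.val m ≠ Q.val m * b := fun h => hbm (by
    rw [ph_smul, smul_eq_iff, mul_inv_eq_iff_eq_mul]; exact h)
  obtain ⟨p, hp, c, hc', d, hd, h1⟩ := (pf cl).out B hBS t hne b hb _ (Q.val_mem m) hbm'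
  refine ⟨ph Q ⟨p, hPL hp⟩, ph_mem_im Q hp, ph Q ⟨c, hBL hc'⟩, ph_mem_im Q hc', fun h2 => h1 ?_⟩
  rw [fxd_im Q hBL, mem_centralizer_iff] at h2
  have h3 := h2 d hd
  have e : ph Q (⟨p, hPL hp⟩ : L) * ph Q (⟨c, hBL hc'⟩ : L) * (ph Q (⟨p, hPL hp⟩ : L))⁻¹ =
      ph Q ((⟨p, hPL hp⟩ : L) * ⟨c, hBL hc'⟩ * (⟨p, hPL hp⟩ : L)⁻¹) := by rw [map_mul, map_mul, map_inv]
  rw [e, ph_smul, ph_smul, Nrm.val_smul, Nrm.val_sub, Nrm.val_smul] at h3
  exact h3

/-- **the field `pair`** -/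
theorem pair (hc : IsCharacteristicTwoType G) (hP : IsParS (S : Subgroup G) P)
    (hPL : P ≤ L) (no : NoOverM (zl (S : Subgroup G) L) L)
    (pf : ConclM (S : Subgroup G) P → Pf (S : Subgroup G) P (zl (S : Subgroup G) P) (zl (S : Subgroup G) L)) :
    ∀ B ≤ im Q (S : Subgroup G), ∀ B' ≤ im Q (S : Subgroup G), Mn Q.Mod B → Mn Q.Mod B' →
      ¬ Fx (Q.ad (zl (S : Subgroup G) P)) B → ¬ Fx (Q.ad (zl (S : Subgroup G) P)) B' →
      ∀ b ∈ B, ∀ b' ∈ B', ∀ m m' : Q.Mod, b • m - m = b' • m' - m' → b • m ≠ m →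
        ∀ c ∈ B, ∃ c' ∈ B', ∀ w ∈ Q.ad (zl (S : Subgroup G) P), c' • w = c • w := by
  intro B₁ hB₁ B₂ hB₂ hMn₁ hMn₂ hF₁ hF₂ b₁ hb₁ b₂ hb₂ m m' he hbm c₁ hc₁
  obtain ⟨B, hBS, hBL, rfl, t, hne, cl⟩ := data Q hc hP hPL no hB₁ hMn₁ hF₁
  obtain ⟨B', hBS', hBL', rfl, t', hne', -⟩ := data Q hc hP hPL no hB₂ hMn₂ hF₂
  obtain ⟨b, hb, rfl⟩ := hb₁
  obtain ⟨b', hb', rfl⟩ := hb₂
  obtain ⟨c, hcB, rfl⟩ := hc₁
  have hbm' : (b : G) * Q.val m ≠ Q.val m * b := fun h => hbm (by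
    rw [ph_smul, smul_eq_iff, mul_inv_eq_iff_eq_mul]; exact h)
  have he' : (b : G) * Q.val m * (b : G)⁻¹ * (Q.val m)⁻¹ = b' * Q.val m' * (b' : G)⁻¹ * (Q.val m')⁻¹ := by
    have h1 := congrArg Q.val he
    rwa [ph_smul, ph_smul, Nrm.val_sub, Nrm.val_sub, Nrm.val_smul, Nrm.val_smul] at h1
  obtain ⟨c', hc', h1⟩ := (pf cl).pair B hBS B' hBS' t t' hne hne' b hb b' hb' _ (Q.val_mem m) _ (Q.val_mem m') he'
    hbm' c hcB
  refine ⟨ph Q ⟨c', hBL' hc'⟩, ph_mem_im Q hc', fun w hw => ?_⟩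
  rw [ph_smul, ph_smul, Nrm.ext_iff, Nrm.val_smul, Nrm.val_smul]
  exact h1 _ hw

end Cfsg.Agent.Omega.NOThreeL.RRed.Ex.Tr1

end
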