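import Cfsg.Agent.Mrg.Omega.NOThreeL.RRed.Ex.Def
import Cfsg.Agent.Lib.ProductSet

section


/-!
# NO-3L, box R: THEOREM EX (#26554): the lattice of exact groups (text: helper245)

* `latt` : `X`, `Y` exact, commuting: `X ⊔ Y` and `X ⊓ Y` are exact, `C_M(X ⊓ Y) = C_M(X) + C_M(Y)`;
* `eq_of_fx` : an exact `D ≤ F`, `C_M(D) ≤ C_M(F)`: `F = D`;
* `Mn.cj`, `Xa.cj`, `Fx.cj`.
-/

set_option autoImplicit false
set_option linter.unusedSectionVars false

namespace Cfsg.Agent.Omega.NOThreeL.RRed.Ex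

open Subgroup
open scoped Pointwise
open Cfsg.Agent.Omega.NOThreeL.RRed.NS (fxd brk mem_fxd)
open Cfsg.Agent.Omega.NOThreeL.RRed.Blk.Types (Sit El mem_cj card_cj fxd_cj brk_cj mem_sup_comm mem_fxd_sup sub_mem_brk brk_le)

universe u v

variable {H : Type u} {M : Type v} [Group H] [AddCommGroup M] [DistribMulAction H M]

theorem fxd_anti {A B : Subgroup H} (h : A ≤ B) : (fxd B : AddSubgroup M) ≤ fxd A := fun _ hm a ha => hm a (h ha)

theorem El.mono {A B : Subgroup H} (h : El B) (hAB : A ≤ B) : El A :=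
  ⟨fun x hx => h.sq x (hAB hx), fun x hx y hy => h.cm x (hAB hx) y (hAB hy)⟩

theorem El.inv_eq {A : Subgroup H} (h : El A) {a : H} (ha : a ∈ A) : a⁻¹ = a := by
  rw [inv_eq_iff_mul_eq_one]; exact h.sq a ha

theorem Sit.no' (s : Sit M (⊤ : Subgroup H)) {F : Subgroup H} (h : El F) :
    Nat.card F * Nat.card (fxd F : AddSubgroup M) ≤ Nat.card M := s.no F le_top h.sq h.cm

theorem card_sup_inf {A B : Subgroup H} [Finite H] (hAB : ∀ a ∈ A, ∀ b ∈ B, a * b = b * a) :
    Nat.card ↥(A ⊔ B) * Nat.card ↥(A ⊓ B) = Nat.card A * Nat.card B := by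
  rw [← Cfsg.Agent.Lib.ProductSet.card_mul_card_inf A B]
  congr 1
  refine Nat.card_congr (Equiv.setCongr ?_)
  ext x
  rw [SetLike.mem_coe, mem_sup_comm hAB, Set.mem_mul]
  rfl

theorem card_sup_inf_add {A B : AddSubgroup M} [Finite M] :
    Nat.card ↥(A ⊔ B) * Nat.card ↥(A ⊓ B) = Nat.card A * Nat.card B := by
  have h1 := AddSubgroup.card_mul_index (A.addSubgroupOf (A ⊔ B))
  have h2 : Nat.card (A.addSubgroupOf (A ⊔ B)) = Nat.card A :=
    Nat.card_congr (AddSubgroup.addSubgroupOfEquivOfLe le_sup_left).toEquiv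
  have h3 : (A.addSubgroupOf (A ⊔ B)).index = (A ⊓ B).relIndex B := by
    have := AddSubgroup.relIndex_sup_left B A
    rw [AddSubgroup.inf_relIndex_right, ← this, sup_comm]
    rfl
  have h4 : Nat.card ↥(A ⊓ B) * (A ⊓ B).relIndex B = Nat.card B := by
    have h5 := AddSubgroup.card_mul_index ((A ⊓ B).addSubgroupOf B)
    have h6 : Nat.card ((A ⊓ B).addSubgroupOf B) = Nat.card ↥(A ⊓ B) :=
      Nat.card_congr (AddSubgroup.addSubgroupOfEquivOfLe inf_le_right).toEquiv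
    rw [h6] at h5
    exact h5
  rw [h2, h3] at h1
  calc Nat.card ↥(A ⊔ B) * Nat.card ↥(A ⊓ B) = Nat.card A * (A ⊓ B).relIndex B * Nat.card ↥(A ⊓ B) := by rw [h1]
    _ = Nat.card A * (Nat.card ↥(A ⊓ B) * (A ⊓ B).relIndex B) := by ring
    _ = _ := by rw [h4]

/-- **The lattice of exact groups.** -/
theorem latt [Finite H] [Finite M] (s : Sit M (⊤ : Subgroup H)) {X Y : Subgroup H} (hX : El X) (hY : El Y)
    (hc : ∀ a ∈ X, ∀ b ∈ Y, a * b = b * a) (eX : Xa M X) (eY : Xa M Y) :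
    Xa M (X ⊔ Y) ∧ Xa M (X ⊓ Y) ∧ ∀ m ∈ (fxd (X ⊓ Y) : AddSubgroup M),
      ∃ x ∈ (fxd X : AddSubgroup M), ∃ y ∈ (fxd Y : AddSubgroup M), m = x + y := by
  have h1 := card_sup_inf hc
  have h2 := card_sup_inf_add (A := (fxd X : AddSubgroup M)) (B := fxd Y)
  have h3 : (fxd X ⊓ fxd Y : AddSubgroup M) = fxd (X ⊔ Y) := by
    apply le_antisymm
    · exact fun m hm => mem_fxd_sup (AddSubgroup.mem_inf.1 hm).1 (AddSubgroup.mem_inf.1 hm).2
    · exact le_inf (fxd_anti le_sup_left) (fxd_anti le_sup_right)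
  have h4 : (fxd X ⊔ fxd Y : AddSubgroup M) ≤ fxd (X ⊓ Y) := sup_le (fxd_anti inf_le_left) (fxd_anti inf_le_right)
  have h5 := AddSubgroup.card_le_of_le h4
  have h6 := Sit.no' s (hX.sup hY hc)
  have h7 := Sit.no' s (El.mono hX (inf_le_left : X ⊓ Y ≤ X))
  rw [h3] at h2
  unfold Xa at eX eY ⊢
  have p1 : 0 < Nat.card M := Nat.card_pos
  have key : Nat.card M * Nat.card M ≤ (Nat.card ↥(X ⊔ Y) * Nat.card (fxd (X ⊔ Y) : AddSubgroup M)) *
      (Nat.card ↥(X ⊓ Y) * Nat.card ↥(fxd X ⊔ fxd Y : AddSubgroup M)) := by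
    calc Nat.card M * Nat.card M ≤ (Nat.card X * Nat.card (fxd X : AddSubgroup M)) *
          (Nat.card Y * Nat.card (fxd Y : AddSubgroup M)) := Nat.mul_le_mul eX eY
      _ = (Nat.card X * Nat.card Y) * (Nat.card (fxd X : AddSubgroup M) * Nat.card (fxd Y : AddSubgroup M)) := by ring
      _ = _ := by rw [← h1, ← h2]; ring
  have k1 : Nat.card M ≤ Nat.card ↥(X ⊓ Y) * Nat.card ↥(fxd X ⊔ fxd Y : AddSubgroup M) := by
    refine Nat.le_of_mul_le_mul_left (a := Nat.card M) ?_ p1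
    exact key.trans (Nat.mul_le_mul_right _ h6)
  have k2 : Nat.card M ≤ Nat.card ↥(X ⊔ Y) * Nat.card (fxd (X ⊔ Y) : AddSubgroup M) := by
    refine Nat.le_of_mul_le_mul_right (c := Nat.card M) ?_ p1
    exact key.trans (Nat.mul_le_mul_left _ ((Nat.mul_le_mul_left _ h5).trans h7))
  refine ⟨k2, k1.trans (Nat.mul_le_mul_left _ h5), fun m hm => ?_⟩
  have k3 : Nat.card (fxd (X ⊓ Y) : AddSubgroup M) ≤ Nat.card ↥(fxd X ⊔ fxd Y : AddSubgroup M) :=
    Nat.le_of_mul_le_mul_left (h7.trans k1) Nat.card_pos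
  have k4 : (fxd X ⊔ fxd Y : AddSubgroup M) = fxd (X ⊓ Y) := AddSubgroup.eq_of_le_of_card_ge h4 k3
  rw [← k4, AddSubgroup.mem_sup] at hm
  obtain ⟨x, hx, y, hy, e⟩ := hm
  exact ⟨x, hx, y, hy, e.symm⟩

theorem Xa.cj [Finite M] {A : Subgroup H} (h : Xa M A) (x : H) : Xa M (MulAut.conj x • A) := by
  unfold Xa at h ⊢
  rw [card_cj]
  refine h.trans (Nat.mul_le_mul_left _ ?_)
  refine Nat.card_le_card_of_injective (fun m : (fxd A : AddSubgroup M) =>
    (⟨x • (m : M), (fxd_cj x A).2 (by rw [inv_smul_smul]; exact m.2)⟩ : (fxd (MulAut.conj x • A) : AddSubgroup M))) ?_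
  intro a b hab
  exact Subtype.ext (MulAction.injective x (congrArg Subtype.val hab))

theorem cj_cj_inv (x : H) (A : Subgroup H) : MulAut.conj x⁻¹ • MulAut.conj x • A = A := by
  rw [← mul_smul, ← map_mul, inv_mul_cancel, map_one, one_smul]

theorem cj_inv_cj (x : H) (A : Subgroup H) : MulAut.conj x • MulAut.conj x⁻¹ • A = A := by
  rw [← mul_smul, ← map_mul, mul_inv_cancel, map_one, one_smul]

theorem cj_mono {x : H} {A B : Subgroup H} (h : A ≤ B) : MulAut.conj x • A ≤ MulAut.conj x • B :=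
  Subgroup.pointwise_smul_le_pointwise_smul_iff.2 h

theorem mem_cj_of {x a : H} {A : Subgroup H} (ha : a ∈ A) : x * a * x⁻¹ ∈ MulAut.conj x • A := by
  rw [mem_cj]
  have e : x⁻¹ * (x * a * x⁻¹) * x = a := by group
  rwa [e]

theorem Mn.cj [Finite M] {A : Subgroup H} (h : Mn M A) (x : H) : Mn M (MulAut.conj x • A) := by
  refine ⟨h.el.cj x, h.ex.cj x, fun e => h.ne ?_, fun B hB hx => ?_⟩
  · have := congrArg (fun B => MulAut.conj x⁻¹ • B) e
    simpa [cj_cj_inv] using this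
  · have h1 : MulAut.conj x⁻¹ • B ≤ A := by
      have := cj_mono (x := x⁻¹) hB
      rwa [cj_cj_inv] at this
    rcases h.min _ h1 (hx.cj _) with h2 | h2
    · left
      have := congrArg (fun B => MulAut.conj x • B) h2
      simpa [cj_inv_cj] using this
    · right
      rw [← h2, cj_inv_cj]

theorem Fx.cj {W : AddSubgroup M} {A : Subgroup H} (h : Fx W A) {x : H} (hx : ∀ w ∈ W, x⁻¹ • w ∈ W) :
    Fx W (MulAut.conj x • A) := fun a ha w hw => by
  have h1 := h _ (mem_cj.1 ha) _ (hx w hw)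
  have e : x⁻¹ * a * x * x⁻¹ = x⁻¹ * a := by group
  rw [← mul_smul, e, mul_smul] at h1
  exact (MulAction.injective x⁻¹ h1)

theorem cj_le_of_mem {x : H} {A B : Subgroup H} (hx : x ∈ B) (hA : A ≤ B) : MulAut.conj x • A ≤ B := fun y hy => by
  have h1 := hA (mem_cj.1 hy)
  have e : y = x * (x⁻¹ * y * x) * x⁻¹ := by group
  rw [e]; exact mul_mem (mul_mem hx h1) (inv_mem hx)

end Cfsg.Agent.Omega.NOThreeL.RRed.Ex

end

section


/-!
# NO-3L, box R: THEOREM EX (#26554), (a), (b), (SC) (text: helper245)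

`G : Gy M S PP W`.

* `Gy.l1` **(L1)** : minimal exact `B, B' ≤ S` moving `W P`, `b = b'` on `W P`: `b' = b`;
* `Gy.t1`, `Gy.ab` : `s ∈ S` commuting with `B` on `W P` commutes with `B`;
* `Gy.comm` **(b)** : `CommMn M S`;  `Gy.oneMn` : `OneMn M S`;  `Gy.scMn` **(SC)** : `ScMn M S`.
-/

set_option autoImplicit false
set_option linter.unusedSectionVars false

namespace Cfsg.Agent.Omega.NOThreeL.RRed.Ex

open Subgroup
open scoped Pointwise
open Cfsg.Agent.Omega.NOThreeL.RRed.NS (fxd brk mem_fxd)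
open Cfsg.Agent.Omega.NOThreeL.RRed.Blk.Types (Sit El mem_cj card_cj fxd_cj brk_cj mem_sup_comm mem_fxd_sup sub_mem_brk brk_le)

universe u v

variable {H : Type u} {M : Type v} [Group H] [AddCommGroup M] [DistribMulAction H M] [Finite H] [Finite M]

variable {S : Subgroup H} {PP : Set (Subgroup H)} {W : Subgroup H → AddSubgroup M} (G : Gy M S PP W)
  {P B B' : Subgroup H}

namespace Gy

include G

theorem cw_bot (hP : P ∈ PP) (hB : B ≤ S) (mB : Mn M B) (hm : ¬ Fx (W P) B) : cw (W P) B = ⊥ := by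
  rcases mB.min _ cw_le (G.split P hP B hB mB.el mB.ex hm).1 with h | h
  · exact h
  · exact absurd (h ▸ fx_cw) hm

/-- `M = W P + C_M(B)` -/
theorem full (hP : P ∈ PP) (hB : B ≤ S) (mB : Mn M B) (hm : ¬ Fx (W P) B) (m : M) :
    ∃ w ∈ W P, ∃ c ∈ (fxd B : AddSubgroup M), m = w + c := by
  refine (G.split P hP B hB mB.el mB.ex hm).2 m ?_
  rw [G.cw_bot hP hB mB hm, mem_fxd]
  intro a ha
  rw [mem_bot] at ha
  rw [ha, one_smul]

theorem smul_W (hP : P ∈ PP) {p : H} (hp : p ∈ P) {w : M} (hw : w ∈ W P) : p • w ∈ W P := G.WP P hP p hp w hw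

/-- `[M, B] ≤ W P` -/
theorem brk_W (hP : P ∈ PP) (hB : B ≤ S) (mB : Mn M B) (hm : ¬ Fx (W P) B) {b : H} (hb : b ∈ B) (m : M) :
    b • m - m ∈ W P := by
  obtain ⟨w, hw, c, hc, rfl⟩ := G.full hP hB mB hm m
  rw [smul_add, hc b hb, add_sub_add_right_eq_sub]
  exact sub_mem (G.smul_W hP (G.SP P hP (hB hb)) hw) hw

/-- two members moving `W P` commute -/
theorem comm_P (hP : P ∈ PP) (hB : B ≤ S) (mB : Mn M B) (hm : ¬ Fx (W P) B) (hB' : B' ≤ S) (mB' : Mn M B')
    (hm' : ¬ Fx (W P) B') : ∀ b ∈ B, ∀ b' ∈ B', b * b' = b' * b := fun b hb b' hb' =>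
  G.sit.comm_of (mem_top _) (mem_top _)
    (fun m => mem_fxd.1 (G.quad P hP B hB mB hm B' hB' mB' (sub_mem_brk hb m)) b' hb')
    (fun m => mem_fxd.1 (G.quad P hP B' hB' mB' hm' B hB mB (sub_mem_brk hb' m)) b hb)

/-- **(L1)** -/
theorem l1 (hP : P ∈ PP) (hB : B ≤ S) (mB : Mn M B) (hm : ¬ Fx (W P) B) (hB' : B' ≤ S) (mB' : Mn M B')
    (hm' : ¬ Fx (W P) B') {b b' : H} (hb : b ∈ B) (hb' : b' ∈ B') (h : ∀ w ∈ W P, b' • w = b • w) : b' = b := by
  have hc := G.comm_P hP hB mB hm hB' mB' hm'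
  have hE : El (B ⊔ B') := mB.el.sup mB'.el hc
  have hX : Xa M (B ⊔ B') := (latt G.sit mB.el mB'.el hc mB.ex mB'.ex).1
  have hS : B ⊔ B' ≤ S := sup_le hB hB'
  have hmv : ¬ Fx (W P) (B ⊔ B') := fun h1 => hm fun a ha => h1 a (mem_sup_left ha)
  set D : Subgroup H := cw (W P) (B ⊔ B') with hD
  have hDX : Xa M D := (G.split P hP _ hS hE hX hmv).1
  have hDE : El D := El.mono hE cw_le
  have hDS : D ≤ S := cw_le.trans hS
  have hWD : W P ≤ (fxd D : AddSubgroup M) := fun w hw d hd => hd.2 w hw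
  -- `[M, B B'] ≤ W P`, `≤ C(B)`
  have hbr : ∀ x ∈ B ⊔ B', ∀ m : M, x • m - m ∈ W P ∧ x • m - m ∈ (fxd B : AddSubgroup M) := by
    intro x hx m
    obtain ⟨y, hy, z, hz, rfl⟩ := (mem_sup_comm hc).1 hx
    have e : (y * z) • m - m = (y • (z • m) - z • m) + (z • m - m) := by rw [mul_smul]; abel
    rw [e]
    exact ⟨add_mem (G.brk_W hP hB mB hm hy _) (G.brk_W hP hB' mB' hm' hz _),
      add_mem (G.quad P hP B hB mB hm B hB mB (sub_mem_brk hy _))
        (G.quad P hP B' hB' mB' hm' B hB mB (sub_mem_brk hz _))⟩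
  have hbD : brk M D ≤ fxd D := brk_le fun a ha m => hWD (hbr a (cw_le ha) m).1
  have hbb : b' * b⁻¹ ∈ D := ⟨mul_mem (mem_sup_right hb') (inv_mem (mem_sup_left hb)), fun w hw => by
    have h1 : b⁻¹ • w ∈ W P := G.smul_W hP (inv_mem (G.SP P hP (hB hb))) hw
    rw [mul_smul, h _ h1, smul_inv_smul]⟩
  by_contra hne
  have hne1 : b' * b⁻¹ ≠ 1 := fun e => hne (mul_inv_eq_one.1 e)
  obtain ⟨v, hv⟩ : ∃ v : M, (b' * b⁻¹) • v ≠ v := by
    by_contra hcon
    push Not at hcon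
    exact hne1 (G.sit.faith _ (mem_top _) hcon)
  obtain ⟨w, hw, c, hcc, rfl⟩ := G.full hP hB' mB' hm' v
  have e1 : (b' * b⁻¹) • (w + c) - (w + c) = b • c - c := by
    rw [smul_add, hbb.2 w hw, add_sub_add_left_eq_sub, ← hc _ (inv_mem hb) _ hb', mul_smul, hcc _ hb',
      El.inv_eq mB.el hb]
  have e2 : b • c ≠ c := by
    intro e
    rw [e, sub_self] at e1
    exact hv (sub_eq_zero.1 e1)
  obtain ⟨p, hp, c', hc', hout⟩ := G.out P hP B hB mB hm b hb c e2
  set g : H := p * c' * p⁻¹ with hg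
  have hgP : g ∈ P := mul_mem (mul_mem hp (G.SP P hP (hB hc'))) (inv_mem hp)
  -- `g` is trivial on `M / W P`
  have hgW : ∀ m : M, g • m - m ∈ W P := by
    intro m
    have h1 : g • m - m = p • (c' • (p⁻¹ • m) - p⁻¹ • m) := by
      rw [smul_sub, smul_inv_smul, hg, mul_smul, mul_smul]
    rw [h1]
    exact G.smul_W hP hp (G.brk_W hP hB mB hm hc' _)
  have hgW' : ∀ m : M, g⁻¹ • m - m ∈ W P := by
    intro m
    have h1 : g⁻¹ • m - m = - (g⁻¹ • (g • m - m)) := by
      rw [smul_sub, inv_smul_smul]; abel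
    rw [h1]
    exact neg_mem (G.smul_W hP (inv_mem hgP) (hgW m))
  have hcj : MulAut.conj g • D = D := by
    refine G.sit.cj_eq le_top hDE hDX hbD (mem_top g) fun m => ?_
    constructor
    · intro h1
      have e : g⁻¹ • m = (g⁻¹ • m - m) + m := by abel
      rw [e]
      exact add_mem (hWD (hgW' m)) h1
    · intro h1
      have e : m = g⁻¹ • m - (g⁻¹ • m - m) := by abel
      rw [e]
      exact sub_mem h1 (hWD (hgW' m))
  apply hout
  rw [← e1]
  have h1 : g * (b' * b⁻¹) * g⁻¹ ∈ D := by rw [← hcj]; exact mem_cj_of hbb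
  have h2 := (hbr _ (cw_le h1) (g • (w + c))).2
  have e : (g * (b' * b⁻¹) * g⁻¹) • g • (w + c) - g • (w + c) = g • ((b' * b⁻¹) • (w + c) - (w + c)) := by
    rw [smul_sub, ← mul_smul, ← mul_smul]
    congr 2
    group
  rwa [e] at h2

/-- `s ∈ S` commuting with `B` on `W P` commutes with `B` -/
theorem t1 (hP : P ∈ PP) (hB : B ≤ S) (mB : Mn M B) (hm : ¬ Fx (W P) B) {s : H} (hs : s ∈ S)
    (h : ∀ b ∈ B, ∀ w ∈ W P, s • b • w = b • s • w) : ∀ b ∈ B, s * b = b * s := by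
  intro b hb
  have hsP := G.SP P hP hs
  have hm' : ¬ Fx (W P) (MulAut.conj s • B) := fun h1 => hm (by
    have h2 := h1.cj (x := s⁻¹) fun w hw => by rw [inv_inv]; exact G.smul_W hP hsP hw
    rwa [cj_cj_inv] at h2)
  have h1 := G.l1 hP hB mB hm (cj_le_of_mem hs hB) (mB.cj s) hm' hb (mem_cj_of hb) fun w hw => by
    have h2 : s⁻¹ • w ∈ W P := G.smul_W hP (inv_mem hsP) hw
    rw [mul_smul, mul_smul, h b hb _ h2, smul_inv_smul]
  rw [mul_inv_eq_iff_eq_mul] at h1
  exact h1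

theorem t1' (hP : P ∈ PP) (hB : B ≤ S) (mB : Mn M B) (hm : ¬ Fx (W P) B) {s : H} (hs : s ∈ S)
    (h : ∀ w ∈ W P, s • w = w) : ∀ b ∈ B, s * b = b * s := by
  refine G.t1 hP hB mB hm hs fun b hb w hw => ?_
  rw [h w hw, h _ (G.smul_W hP (G.SP P hP (hB hb)) hw)]

/-- **(ab)** -/
theorem ab : ∀ P ∈ PP, ∀ A ≤ S, El A → Xa M A → ∀ B ≤ S, Mn M B → ¬ Fx (W P) B → ∀ a ∈ A, ∀ b ∈ B, a * b = b * a :=
  fun P hP A hA eA xA _ hB mB hm a ha b hb =>
    G.t1 hP hB mB hm (hA ha) (fun b hb w hw => G.wab P hP A hA eA xA _ hB mB a ha b hb w hw) b hb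

omit [Finite H] [Finite M] in
theorem fx_sup {W : AddSubgroup M} {A B : Subgroup H} (hA : Fx W A) (hB : Fx W B) : Fx W (A ⊔ B) := by
  intro x hx w hw
  exact mem_fxd_sup (M := M) (fun a ha => hA a ha w hw) (fun b hb => hB b hb w hw) x hx

/-- **(b)** -/
theorem comm : CommMn M S := by
  intro A hA B hB mA mB
  have hS : A ⊔ B ≤ S := sup_le hA hB
  have hne : A ⊔ B ≠ ⊥ := fun e => mA.ne (le_bot_iff.1 (e ▸ le_sup_left))
  obtain ⟨h, hh, P, hP, hmv⟩ := G.gal _ hS hne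
  have hA' : MulAut.conj h • A ≤ S := (cj_mono le_sup_left).trans hh
  have hB' : MulAut.conj h • B ≤ S := (cj_mono le_sup_right).trans hh
  have key : ∀ a ∈ MulAut.conj h • A, ∀ b ∈ MulAut.conj h • B, a * b = b * a := by
    by_cases h1 : Fx (W P) (MulAut.conj h • A)
    · have h2 : ¬ Fx (W P) (MulAut.conj h • B) := fun h2 => hmv (by
        rw [Subgroup.smul_sup]
        exact fx_sup G h1 h2)
      exact G.ab P hP _ hA' (mA.cj h).el (mA.cj h).ex _ hB' (mB.cj h) h2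
    · exact fun a ha b hb => (G.ab P hP _ hB' (mB.cj h).el (mB.cj h).ex _ hA' (mA.cj h) h1 b hb a ha).symm
  intro a ha b hb
  have h1 := key _ (mem_cj_of ha) _ (mem_cj_of hb)
  have h2 : h * (a * b) * h⁻¹ = h * (b * a) * h⁻¹ := by
    calc h * (a * b) * h⁻¹ = h * a * h⁻¹ * (h * b * h⁻¹) := by group
      _ = h * b * h⁻¹ * (h * a * h⁻¹) := h1
      _ = _ := by group
  exact mul_left_cancel (mul_right_cancel h2)

theorem oneMn : OneMn M S := by
  intro B hB mB b hb hb1 m hm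
  obtain ⟨h, hh, P, hP, hmv⟩ := G.gal _ hB mB.ne
  have h1 := G.one P hP _ hh (mB.cj h) hmv _ (mem_cj_of hb) (fun e => hb1 (by
    have : h * b * h⁻¹ = h * 1 * h⁻¹ := by rw [e]; group
    exact mul_left_cancel (mul_right_cancel this))) (h • m) (by
      have e : h * b * h⁻¹ * h = h * b := by group
      rw [← mul_smul, e, mul_smul, hm])
  rw [fxd_cj, inv_smul_smul] at h1
  exact h1

/-- **(SC)** at one `P` -/
theorem sc_P {A : Subgroup H} (hP : P ∈ PP) (hA : A ≤ S) (mA : Mn M A) (hm : ¬ Fx (W P) A) (hB : B ≤ S) (mB : Mn M B)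
    {a b : H} (ha : a ∈ A) (hb : b ∈ B) {m m' : M} (h : a • m - m = b • m' - m') (hne : a • m ≠ m) : A = B := by
  by_cases hmB : Fx (W P) B
  · exfalso
    obtain ⟨p, hp, c, hc, hout⟩ := G.out P hP A hA mA hm a ha m hne
    apply hout
    -- `B^(p⁻¹) ≤ S` commutes with `A`
    have h1 : MulAut.conj p⁻¹ • B ≤ S := G.PS P hP B hB hmB _ (inv_mem hp)
    have h2 : Fx (W P) (MulAut.conj p⁻¹ • B) := hmB.cj fun w hw => by
      rw [inv_inv]; exact G.smul_W hP hp hw
    have h3 : p⁻¹ * b * p ∈ MulAut.conj p⁻¹ • B := by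
      have := mem_cj_of (x := p⁻¹) hb
      rwa [inv_inv] at this
    have h4 := G.t1' hP hA mA hm (h1 h3) (h2 _ h3) c hc
    have h5 : p * c * p⁻¹ * b = b * (p * c * p⁻¹) := by
      calc p * c * p⁻¹ * b = p * (c * (p⁻¹ * b * p)) * p⁻¹ := by group
        _ = p * (p⁻¹ * b * p * c) * p⁻¹ := by rw [h4]
        _ = _ := by group
    -- `[M, b] ≤ C(A)`
    have h6 : ∀ n : M, b • n - n ∈ (fxd A : AddSubgroup M) := by
      intro n a' ha'
      obtain ⟨w, hw, c', hc', rfl⟩ := G.full hP hA mA hm n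
      have e : b • (w + c') - (w + c') = b • c' - c' := by
        rw [smul_add, hmB b hb w hw, add_sub_add_left_eq_sub]
      have h7 := G.t1' hP hA mA hm (hB hb) (hmB b hb) a' ha'
      rw [e, smul_sub, hc' a' ha', ← mul_smul, ← h7, mul_smul, hc' a' ha']
    rw [h]
    have e : (p * c * p⁻¹) • (b • m' - m') = b • ((p * c * p⁻¹) • m') - (p * c * p⁻¹) • m' := by
      rw [smul_sub, ← mul_smul, h5, mul_smul]
    rw [e]
    exact h6 _
  · have h1 : A ≤ B := by
      intro c hc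
      obtain ⟨c', hc', h2⟩ := G.pair P hP A hA B hB mA mB hm hmB a ha b hb m m' h hne c hc
      rw [← G.l1 hP hA mA hm hB mB hmB hc hc' h2]
      exact hc'
    rcases mB.min A h1 mA.ex with h2 | h2
    · exact absurd h2 mA.ne
    · exact h2

/-- **(SC)** -/
theorem scMn : ScMn M S := by
  intro A hA B hB mA mB a ha b hb m m' h hne
  have hS : A ⊔ B ≤ S := sup_le hA hB
  have hne' : A ⊔ B ≠ ⊥ := fun e => mA.ne (le_bot_iff.1 (e ▸ le_sup_left))
  obtain ⟨x, hh, P, hP, hmv⟩ := G.gal _ hS hne'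
  have hA' : MulAut.conj x • A ≤ S := (cj_mono le_sup_left).trans hh
  have hB' : MulAut.conj x • B ≤ S := (cj_mono le_sup_right).trans hh
  have e : ∀ (a : H) (m : M), (x * a * x⁻¹) • x • m - x • m = x • (a • m - m) := by
    intro a m
    have e : x * a * x⁻¹ * x = x * a := by group
    rw [← mul_smul, e, mul_smul, smul_sub]
  have h1 : (x * a * x⁻¹) • x • m - x • m = (x * b * x⁻¹) • x • m' - x • m' := by rw [e, e, h]
  have h2 : (x * a * x⁻¹) • x • m ≠ x • m := by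
    intro h3
    have h4 := e a m
    rw [h3, sub_self, eq_comm, smul_eq_zero_iff_eq] at h4
    exact hne (sub_eq_zero.1 h4)
  have h3 : (x * b * x⁻¹) • x • m' ≠ x • m' := by
    intro h3
    rw [h3, sub_self, sub_eq_zero] at h1
    exact h2 h1
  have key : MulAut.conj x • A = MulAut.conj x • B := by
    by_cases hf : Fx (W P) (MulAut.conj x • A)
    · have hf' : ¬ Fx (W P) (MulAut.conj x • B) := fun h2 => hmv (by
        rw [Subgroup.smul_sup]
        exact fx_sup G hf h2)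
      exact (G.sc_P hP hB' (mB.cj x) hf' hA' (mA.cj x) (mem_cj_of hb) (mem_cj_of ha) h1.symm h3).symm
    · exact G.sc_P hP hA' (mA.cj x) hf hB' (mB.cj x) (mem_cj_of ha) (mem_cj_of hb) h1 h2
  have := congrArg (fun A => MulAut.conj x⁻¹ • A) key
  simpa only [cj_cj_inv] using this

end Gy

end Cfsg.Agent.Omega.NOThreeL.RRed.Ex

end

section


/-!
# NO-3L, box R: THEOREM EX (#26554), (c) (text: helper245)

* **`Gy.commX`** : every exact elementary abelian `A ≤ S` commutes with every minimal exact `B ≤ S`.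
-/

set_option autoImplicit false
set_option linter.unusedSectionVars false

namespace Cfsg.Agent.Omega.NOThreeL.RRed.Ex

open Subgroup
open scoped Pointwise
open Cfsg.Agent.Omega.NOThreeL.RRed.NS (fxd brk mem_fxd)
open Cfsg.Agent.Omega.NOThreeL.RRed.Blk.Types (Sit El mem_cj card_cj fxd_cj brk_cj mem_sup_comm mem_fxd_sup sub_mem_brk brk_le)

universe u v

variable {H : Type u} {M : Type v} [Group H] [AddCommGroup M] [DistribMulAction H M] [Finite H] [Finite M]

/-- A map whose fibres are in cosets of `B`. -/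
theorem card_le_map {α : Type*} [Finite α] {A B : Subgroup H} (f : H → α)
    (hf : ∀ a ∈ A, ∀ a' ∈ A, f a = f a' → a⁻¹ * a' ∈ B) : Nat.card A ≤ Nat.card α * Nat.card B := by
  classical
  rw [← Nat.card_prod]
  have key : ∀ x : α, ∃ s : H, (∃ a ∈ A, f a = x) → s ∈ A ∧ f s = x := fun x => by
    by_cases h : ∃ a ∈ A, f a = x
    · obtain ⟨a, ha, hx⟩ := h
      exact ⟨a, fun _ => ⟨ha, hx⟩⟩
    · exact ⟨1, fun h' => absurd h' h⟩
  choose s hs using key
  refine Nat.card_le_card_of_injective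
    (fun a : A => (⟨f a, ⟨(s (f a))⁻¹ * a, ?_⟩⟩ : α × B)) fun a a' h => ?_
  · have h1 := hs (f a) ⟨a, a.2, rfl⟩
    exact hf _ h1.1 _ a.2 h1.2
  · have h1 : f a = f a' := congrArg Prod.fst h
    have h2 : (s (f a))⁻¹ * (a : H) = (s (f a'))⁻¹ * a' := congrArg (fun t : α × B => (t.2 : H)) h
    rw [h1] at h2
    exact Subtype.ext (mul_left_cancel h2)

/-- `x ↦ b x - x` maps `K` to `L / K`, the kernel is in `N`. -/
theorem card_le_of_sub {K L N : AddSubgroup M} (hKL : K ≤ L) {b : H} (h1 : ∀ x ∈ K, b • x - x ∈ L)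
    (h2 : ∀ x ∈ K, b • x - x ∈ K → x ∈ N) :
    Nat.card K * Nat.card K ≤ Nat.card L * Nat.card ↥(K ⊓ N : AddSubgroup M) := by
  let φ : K →+ L ⧸ K.addSubgroupOf L :=
    { toFun := fun x => QuotientAddGroup.mk (⟨b • (x : M) - x, h1 x x.2⟩ : L)
      map_zero' := by
        rw [QuotientAddGroup.eq_zero_iff, AddSubgroup.mem_addSubgroupOf]
        simp
      map_add' := fun x y => by
        rw [← QuotientAddGroup.mk_add]
        congr 1
        apply Subtype.ext
        change b • ((x : M) + y) - (x + y) = (b • (x : M) - x) + (b • (y : M) - y)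
        rw [smul_add]; abel }
  have h3 : Nat.card φ.ker * Nat.card φ.range = Nat.card K := by
    rw [← AddSubgroup.index_ker, AddSubgroup.card_mul_index]
  have h4 : Nat.card φ.range ≤ Nat.card (L ⧸ K.addSubgroupOf L) := AddSubgroup.card_le_card_addGroup _
  have h5 : Nat.card φ.ker ≤ Nat.card ↥(K ⊓ N : AddSubgroup M) := by
    refine Nat.card_le_card_of_injective (fun x : φ.ker => (⟨((x : K) : M), (x : K).2, ?_⟩ : ↥(K ⊓ N : AddSubgroup M))) ?_
    · have h6 := x.2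
      rw [AddMonoidHom.mem_ker] at h6
      have h7 : (QuotientAddGroup.mk (⟨b • ((x : K) : M) - (x : K), h1 _ (x : K).2⟩ : L) : L ⧸ K.addSubgroupOf L) = 0 := h6
      rw [QuotientAddGroup.eq_zero_iff, AddSubgroup.mem_addSubgroupOf] at h7
      exact h2 _ (x : K).2 h7
    · intro x y hxy
      exact Subtype.ext (Subtype.ext (congrArg (fun z : ↥(K ⊓ N : AddSubgroup M) => (z : M)) hxy))
  have h6 : Nat.card K * Nat.card (L ⧸ K.addSubgroupOf L) = Nat.card L := by
    have h7 := AddSubgroup.card_mul_index (K.addSubgroupOf L)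
    have h8 : Nat.card (K.addSubgroupOf L) = Nat.card K :=
      Nat.card_congr (AddSubgroup.addSubgroupOfEquivOfLe hKL).toEquiv
    rw [h8] at h7
    exact h7
  calc Nat.card K * Nat.card K = Nat.card K * (Nat.card φ.ker * Nat.card φ.range) := by rw [h3]
    _ ≤ Nat.card K * (Nat.card ↥(K ⊓ N : AddSubgroup M) * Nat.card (L ⧸ K.addSubgroupOf L)) :=
      Nat.mul_le_mul_left _ (Nat.mul_le_mul h5 h4)
    _ = (Nat.card K * Nat.card (L ⧸ K.addSubgroupOf L)) * Nat.card ↥(K ⊓ N : AddSubgroup M) := by ring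
    _ = _ := by rw [h6]

variable {S : Subgroup H} {PP : Set (Subgroup H)} {W : Subgroup H → AddSubgroup M} (G : Gy M S PP W)
  {P A B : Subgroup H}

namespace Gy

include G

/-- the main step: `A` moves `W P`, `B` centralises `W P` -/
theorem commX_key (hP : P ∈ PP) (hA : A ≤ S) (eA : El A) (xA : Xa M A) (hm : ¬ Fx (W P) A) (hB : B ≤ S) (mB : Mn M B)
    (hf : Fx (W P) B)
    (ih : ∀ A' ≤ S, El A' → Xa M A' → Nat.card A' < Nat.card A → ∀ B' ≤ S, Mn M B' → ∀ a ∈ A', ∀ b ∈ B',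
      a * b = b * a) : ∀ a ∈ A, ∀ b ∈ B, a * b = b * a := by
  obtain ⟨xF, sF⟩ := G.split P hP A hA eA xA hm
  set F : Subgroup H := cw (W P) A with hF
  have hFA : F ≤ A := cw_le
  have hFne : F ≠ A := fun e => hm (e ▸ fx_cw)
  have hlt : ∀ X ≤ A, X ≠ A → Nat.card X < Nat.card A := fun X hX hne => by
    refine lt_of_le_of_ne (Subgroup.card_le_of_le hX) fun e => hne (Subgroup.eq_of_le_of_card_ge hX e.ge)
  have eF : El F := El.mono eA hFA
  have cF : ∀ B' ≤ S, Mn M B' → ∀ f ∈ F, ∀ b ∈ B', f * b = b * f := fun B' hB' mB' =>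
    ih F (hFA.trans hA) eF xF (hlt F hFA hFne) B' hB' mB'
  have cFB := cF B hB mB
  rcases G.sg P hP A hA eA xA hm with ⟨X, hX, Y, hY, hXne, hYne, xX, xY, hXY⟩ | hs
  · intro a ha b hb
    have h1 : X ⊔ Y ≤ centralizer ({b} : Set H) := by
      refine sup_le (fun x hx => ?_) (fun y hy => ?_)
      · rw [mem_centralizer_singleton_iff]
        exact ih X (hX.trans hA) (El.mono eA hX) xX (hlt X hX hXne) B hB mB x hx b hb
      · rw [mem_centralizer_singleton_iff]
        exact ih Y (hY.trans hA) (El.mono eA hY) xY (hlt Y hY hYne) B hB mB y hy b hb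
    rw [hXY] at h1
    exact mem_centralizer_singleton_iff.1 (h1 ha)
  -- `A / F` is one root group
  have hL := latt G.sit eF mB.el cFB xF mB.ex
  by_cases hBF : B ≤ F
  · intro a ha b hb
    exact eA.cm a ha b (hFA (hBF hb))
  have hFB : F ⊓ B = ⊥ := by
    rcases mB.min (F ⊓ B) inf_le_right hL.2.1 with h | h
    · exact h
    · exact absurd (inf_eq_right.1 h) hBF
  -- `M = C(A) + C(B)`
  have hAB : ∀ m : M, ∃ c ∈ (fxd A : AddSubgroup M), ∃ y ∈ (fxd B : AddSubgroup M), m = c + y := by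
    intro m
    obtain ⟨x, hx, y, hy, rfl⟩ := hL.2.2 m (by
      rw [hFB, mem_fxd]
      intro a ha
      rw [mem_bot.1 ha, one_smul])
    obtain ⟨w, hw, c, hc, rfl⟩ := sF x hx
    exact ⟨c, hc, w + y, add_mem (fun b hb => hf b hb w hw) hy, by abel⟩
  -- faithfulness on `C(A)`
  have faith : ∀ b ∈ B, ∀ b' ∈ B, (∀ x ∈ (fxd A : AddSubgroup M), b • x = b' • x) → b = b' := by
    intro b hb b' hb' h1
    have h2 : b'⁻¹ * b = 1 := by
      refine G.sit.faith _ (mem_top _) fun m => ?_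
      obtain ⟨c, hc, y, hy, rfl⟩ := hAB m
      rw [mul_smul, inv_smul_eq_iff, smul_add, smul_add, h1 c hc, hy b hb, hy b' hb']
    exact (inv_mul_eq_one.1 h2).symm
  have hWA : ∀ a ∈ A, ∀ w ∈ W P, a • w ∈ W P := fun a ha w hw => G.smul_W hP (G.SP P hP (hA ha)) hw
  -- the conjugates of `B`
  have cj1 : ∀ a ∈ A, MulAut.conj a • B ≤ S := fun a ha => cj_le_of_mem (hA ha) hB
  have cj2 : ∀ a ∈ A, MulAut.conj a • B ≤ F ⊔ B := by
    intro a ha
    have mB' : Mn M (MulAut.conj a • B) := mB.cj a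
    have hcc : ∀ x ∈ F ⊔ B, ∀ y ∈ MulAut.conj a • B, x * y = y * x := by
      intro x hx y hy
      have h1 : F ⊔ B ≤ centralizer ({y} : Set H) := by
        refine sup_le (fun x hx => ?_) (fun x hx => ?_)
        · rw [mem_centralizer_singleton_iff]
          exact cF _ (cj1 a ha) mB' x hx y hy
        · rw [mem_centralizer_singleton_iff]
          exact G.comm B hB _ (cj1 a ha) mB mB' x hx y hy
      exact mem_centralizer_singleton_iff.1 (h1 hx)
    have eD : El (F ⊔ B) := eF.sup mB.el cFB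
    have h1 := G.sit.eq_of_le (D := F ⊔ B) (F := (F ⊔ B) ⊔ MulAut.conj a • B) le_top (eD.sup mB'.el hcc) le_sup_left
      hL.1 fun m hm => mem_fxd_sup hm ?_
    · rw [← h1]; exact le_sup_right
    · obtain ⟨w, hw, c, hc, rfl⟩ := sF m (fxd_anti le_sup_left hm)
      have hcB : c ∈ (fxd B : AddSubgroup M) := by
        intro b hb
        have h2 := fxd_anti (le_sup_right : B ≤ F ⊔ B) hm b hb
        rw [smul_add, hf b hb w hw] at h2
        exact add_left_cancel h2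
      refine add_mem ?_ ?_
      · exact fun b hb => hf.cj (x := a) (fun w hw => hWA _ (inv_mem ha) w hw) b hb w hw
      · rw [fxd_cj, inv_smul_eq_iff.2 (hc a ha).symm]
        exact hcB
  -- `θ`
  have hθ : ∀ a ∈ A, ∀ b ∈ B, ∃ b' ∈ B, ∃ f ∈ F, a * b * a⁻¹ = f * b' := by
    intro a ha b hb
    obtain ⟨f, hf', b', hb', e⟩ := (mem_sup_comm cFB).1 (cj2 a ha (mem_cj_of hb))
    exact ⟨b', hb', f, hf', e.symm⟩
  -- `a (b x - x) = b' x - x`
  have ht : ∀ a ∈ A, ∀ b ∈ B, ∀ b' ∈ B, ∀ f ∈ F, a * b * a⁻¹ = f * b' → ∀ x ∈ (fxd A : AddSubgroup M),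
      a • (b • x - x) = b' • x - x := by
    intro a ha b hb b' hb' f hf' e x hx
    have h1 : a⁻¹ • x = x := hx _ (inv_mem ha)
    have h2 : a • b • x = (a * b * a⁻¹) • x := by
      rw [mul_smul, h1, mul_smul]
    rw [smul_sub, h2, e, cFB f hf' b' hb', mul_smul, hx f (hFA hf'), hx a ha]
  -- fact C
  have hC : ∀ a ∈ A, a ∉ F → ∀ b ∈ B, a * b * a⁻¹ * b⁻¹ ∈ F → ∀ x ∈ (fxd A : AddSubgroup M),
      b • x - x ∈ (fxd A : AddSubgroup M) := by
    intro a ha haF b hb h1 x hx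
    have h2 := ht a ha b hb b hb _ h1 (by group) x hx
    have h3 : b • x - x ∈ (fxd F : AddSubgroup M) := by
      intro f hf'
      rw [smul_sub, ← mul_smul, cFB f hf' b hb, mul_smul, hx f (hFA hf')]
    obtain ⟨w, hw, c, hc, e⟩ := sF _ h3
    rw [e] at h2 ⊢
    rw [smul_add, hc a ha] at h2
    refine add_mem (hs a ha (fun h4 => haF ⟨ha, h4⟩) w hw (add_right_cancel h2)) hc
  have hC' : ∀ a ∈ A, ∀ b ∈ B, (∀ x ∈ (fxd A : AddSubgroup M), b • x - x ∈ (fxd A : AddSubgroup M)) →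
      a * b * a⁻¹ * b⁻¹ ∈ F := by
    intro a ha b hb h1
    obtain ⟨b', hb', f, hf', e⟩ := hθ a ha b hb
    have h2 : b' = b := by
      refine faith b' hb' b hb fun x hx => ?_
      have h3 := ht a ha b hb b' hb' f hf' e x hx
      rw [h1 x hx a ha] at h3
      exact (sub_left_inj.1 h3).symm
    rw [e, h2, mul_inv_cancel_right]
    exact hf'
  obtain ⟨a0, ha0, ha0F⟩ : ∃ a ∈ A, a ∉ F := by
    by_contra hcon
    push Not at hcon
    exact hFne (le_antisymm hFA hcon)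
  by_cases hall : ∀ b ∈ B, ∀ x ∈ (fxd A : AddSubgroup M), b • x - x ∈ (fxd A : AddSubgroup M)
  · -- the trivial case
    intro a ha b hb
    by_cases hb1 : b = 1
    · rw [hb1, mul_one, one_mul]
    have h1 := hC' a ha b hb (hall b hb)
    obtain ⟨x, hx, hbx⟩ : ∃ x ∈ (fxd A : AddSubgroup M), b • x ≠ x := by
      by_contra hcon
      push Not at hcon
      exact hb1 (faith b hb 1 (one_mem _) fun x hx => by rw [hcon x hx, one_smul])
    have h2 := ht a ha b hb b hb _ h1 (by group) x hx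
    have h3 : b • x - x = (a * b * a⁻¹) • x - x := by
      have h4 : (a * b * a⁻¹) • x - x = a • (b • x - x) := by
        have h5 : a⁻¹ • x = x := hx _ (inv_mem ha)
        rw [mul_smul, h5, mul_smul, smul_sub, hx a ha]
      rw [h4, h2]
    have h4 := G.scMn B hB _ (cj1 a ha) mB (mB.cj a) b hb _ (mem_cj_of hb) x x h3 hbx
    have h5 : a * b * a⁻¹ ∈ B := by rw [h4]; exact mem_cj_of hb
    have h6 : a * b * a⁻¹ * b⁻¹ ∈ F ⊓ B := mem_inf.2 ⟨h1, mul_mem h5 (inv_mem hb)⟩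
    rw [hFB, mem_bot, mul_inv_eq_one, mul_inv_eq_iff_eq_mul] at h6
    exact h6
  · exfalso
    push Not at hall
    obtain ⟨b0, hb0, x0, hx0, hbx0⟩ := hall
    -- `B_c`
    let Bc : Subgroup H :=
      { carrier := {b | b ∈ B ∧ ∀ x ∈ (fxd A : AddSubgroup M), b • x - x ∈ (fxd A : AddSubgroup M)}
        mul_mem' := by
          rintro b c ⟨hb, hb'⟩ ⟨hc, hc'⟩
          refine ⟨mul_mem hb hc, fun x hx => ?_⟩
          have h1 : c • x ∈ (fxd A : AddSubgroup M) := by
            have := add_mem (hc' x hx) hx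
            rwa [sub_add_cancel] at this
          have e : (b * c) • x - x = (b • (c • x) - c • x) + (c • x - x) := by rw [mul_smul]; abel
          rw [e]
          exact add_mem (hb' _ h1) (hc' x hx)
        one_mem' := ⟨one_mem _, fun x _ => by rw [one_smul, sub_self]; exact zero_mem _⟩
        inv_mem' := by
          rintro b ⟨hb, hb'⟩
          exact ⟨inv_mem hb, by rw [El.inv_eq mB.el hb]; exact hb'⟩ }
    have hBc : ∀ b, b ∈ Bc ↔ b ∈ B ∧ ∀ x ∈ (fxd A : AddSubgroup M), b • x - x ∈ (fxd A : AddSubgroup M) :=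
      fun b => Iff.rfl
    have hb0c : b0 ∉ Bc := fun h => hbx0 (h.2 x0 hx0)
    -- `θ a b₀`
    have hex : ∀ a : H, ∃ b' : H, a ∈ A → b' ∈ B ∧ ∃ f ∈ F, a * b0 * a⁻¹ = f * b' := by
      intro a
      by_cases ha : a ∈ A
      · obtain ⟨b', hb', f, hf', e⟩ := hθ a ha b0 hb0
        exact ⟨b', fun _ => ⟨hb', f, hf', e⟩⟩
      · exact ⟨1, fun h => absurd h ha⟩
    choose θ hθ' using hex
    -- `θ a b₀ b₀⁻¹ ∈ B_c`
    have hcBc : ∀ a ∈ A, θ a * b0⁻¹ ∈ Bc := by
      intro a ha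
      obtain ⟨hb', f, hf', e⟩ := hθ' a ha
      have hcB : θ a * b0⁻¹ ∈ B := mul_mem hb' (inv_mem hb0)
      refine (hBc _).2 ⟨hcB, ?_⟩
      have haf : a * f⁻¹ = f⁻¹ * a := eA.cm a ha _ (hFA (inv_mem hf'))
      -- `a c a⁻¹ = c`
      have e1 : θ a = f⁻¹ * (a * b0 * a⁻¹) := by rw [e]; group
      have haa : a * a = 1 := eA.sq a ha
      have e2 : a * θ a * a⁻¹ = f⁻¹ * b0 := by
        calc a * θ a * a⁻¹ = (a * f⁻¹) * (a * b0 * a⁻¹) * a⁻¹ := by rw [e1]; group
          _ = f⁻¹ * (a * a) * b0 * (a * a)⁻¹ := by rw [haf]; group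
          _ = f⁻¹ * b0 := by rw [haa]; group
      have h0 := mB.el.cm _ hb' _ (inv_mem hb0)
      have e3 : a * (θ a * b0⁻¹) * a⁻¹ = θ a * b0⁻¹ := by
        have h1 : a * b0⁻¹ * a⁻¹ = (f * θ a)⁻¹ := by rw [← e]; group
        have h2 := cFB _ (inv_mem hf') b0 hb0
        have h3 := cFB _ hf' _ hb'
        have h4 : b0 = b0⁻¹ := (El.inv_eq mB.el hb0).symm
        have h5 : θ a = (θ a)⁻¹ := (El.inv_eq mB.el hb').symm
        calc a * (θ a * b0⁻¹) * a⁻¹ = (a * θ a * a⁻¹) * (a * b0⁻¹ * a⁻¹) := by group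
          _ = f⁻¹ * b0 * (f * θ a)⁻¹ := by rw [e2, h1]
          _ = b0 * f⁻¹ * (f * θ a)⁻¹ := by rw [h2]
          _ = b0 * f⁻¹ * (θ a * f)⁻¹ := by rw [h3]
          _ = b0 * (f⁻¹ * f⁻¹) * (θ a)⁻¹ := by group
          _ = b0 * (θ a)⁻¹ := by rw [eF.sq _ (inv_mem hf'), mul_one]
          _ = b0⁻¹ * θ a := by rw [← h4, ← h5]
          _ = θ a * b0⁻¹ := h0.symm
      by_cases haF : a ∈ F
      · -- `θ a = b₀`
        have h1 : a * b0 * a⁻¹ = b0 := by rw [cFB a haF b0 hb0, mul_inv_cancel_right]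
        have h2 : θ a * b0⁻¹ ∈ F ⊓ B := by
          refine mem_inf.2 ⟨?_, hcB⟩
          rw [e1, h1, mul_assoc, mul_inv_cancel, mul_one]
          exact inv_mem hf'
        rw [hFB, mem_bot] at h2
        intro x _
        rw [h2, one_smul, sub_self]
        exact zero_mem _
      · refine hC a ha haF _ hcB ?_
        rw [e3, mul_inv_cancel]
        exact one_mem _
    -- `|A| ≤ |B_c| |F|`
    have c1 : Nat.card A ≤ Nat.card Bc * Nat.card F := by
      classical
      refine card_le_map (fun a => if h : a ∈ A then (⟨θ a * b0⁻¹, hcBc a h⟩ : Bc) else 1) fun a ha a' ha' he => ?_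
      simp only [dif_pos ha, dif_pos ha'] at he
      have he' : θ a = θ a' := mul_right_cancel (congrArg Subtype.val he)
      obtain ⟨hb', f, hf', e⟩ := hθ' a ha
      obtain ⟨-, f', hf'', e'⟩ := hθ' a' ha'
      by_contra hg
      apply hb0c
      refine (hBc _).2 ⟨hb0, hC (a⁻¹ * a') (mul_mem (inv_mem ha) ha') hg b0 hb0 ?_⟩
      have h1 : a⁻¹ * a' * b0 * (a⁻¹ * a')⁻¹ = a⁻¹ * (f' * f⁻¹) * (a * b0 * a⁻¹) * a := by
        calc a⁻¹ * a' * b0 * (a⁻¹ * a')⁻¹ = a⁻¹ * (a' * b0 * a'⁻¹) * a := by group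
          _ = a⁻¹ * (f' * θ a) * a := by rw [e', he']
          _ = a⁻¹ * (f' * f⁻¹) * (f * θ a) * a := by group
          _ = _ := by rw [← e]
      have h2 : a⁻¹ * (f' * f⁻¹) = f' * f⁻¹ * a⁻¹ :=
        eA.cm _ (inv_mem ha) _ (hFA (mul_mem hf'' (inv_mem hf')))
      have h3 : a⁻¹ * a' * b0 * (a⁻¹ * a')⁻¹ * b0⁻¹ = f' * f⁻¹ := by
        rw [h1, h2]; group
      rw [h3]
      exact mul_mem hf'' (inv_mem hf')
    -- `c₀ = θ a₀ b₀⁻¹`
    obtain ⟨hbθ, f0, hf0, e0⟩ := hθ' a0 ha0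
    have hc0 : θ a0 * b0⁻¹ ≠ 1 := by
      intro h
      have h1 : θ a0 = b0 := mul_inv_eq_one.1 h
      apply hb0c
      refine (hBc _).2 ⟨hb0, hC a0 ha0 ha0F b0 hb0 ?_⟩
      rw [e0, h1, mul_inv_cancel_right]
      exact hf0
    have hFix : (fxd A : AddSubgroup M) ≤ fxd F := fxd_anti hFA
    have c2 := card_le_of_sub (K := (fxd A : AddSubgroup M)) (L := fxd F) (N := fxd B) (b := b0) hFix
      (fun x hx f hf' => by rw [smul_sub, ← mul_smul, cFB f hf' b0 hb0, mul_smul, hx f (hFA hf')])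
      (fun x hx h1 => by
        have h2 := ht a0 ha0 b0 hb0 _ hbθ f0 hf0 e0 x hx
        rw [h1 a0 ha0] at h2
        have h3 : θ a0 • x = b0 • x := (sub_left_inj.1 h2).symm
        refine G.oneMn B hB mB _ (mul_mem hbθ (inv_mem hb0)) hc0 x ?_
        rw [mB.el.cm _ hbθ _ (inv_mem hb0), mul_smul, h3, inv_smul_smul])
    -- numbers
    have s1 := card_sup_inf_add (A := (fxd A : AddSubgroup M)) (B := fxd B)
    have s2 : (fxd A ⊔ fxd B : AddSubgroup M) = ⊤ := by
      rw [eq_top_iff]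
      intro m _
      obtain ⟨c, hc, y, hy, rfl⟩ := hAB m
      exact add_mem (AddSubgroup.mem_sup_left hc) (AddSubgroup.mem_sup_right hy)
    rw [s2] at s1
    have s3 : Nat.card (⊤ : AddSubgroup M) = Nat.card M := AddSubgroup.card_top
    rw [s3] at s1
    have n1 := Sit.no' G.sit eF
    have n2 := Sit.no' G.sit mB.el
    have n3 := xA
    have c3 : Nat.card Bc < Nat.card B := by
      refine lt_of_le_of_ne (Subgroup.card_le_of_le fun b hb => hb.1) fun e => hb0c ?_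
      have h1 : Bc = B := Subgroup.eq_of_le_of_card_ge (fun b hb => hb.1) e.ge
      rw [h1]; exact hb0
    unfold Xa at n3
    -- |B| |F| ≤ |A|
    have p1 : 0 < Nat.card F := Nat.card_pos
    have p2 : 0 < Nat.card (fxd A : AddSubgroup M) := Nat.card_pos
    have p3 : 0 < Nat.card (fxd B : AddSubgroup M) := Nat.card_pos
    have p4 : 0 < Nat.card ↥(fxd A ⊓ fxd B : AddSubgroup M) := Nat.card_pos
    have c4 : Nat.card B * Nat.card F ≤ Nat.card A := by
      set x := Nat.card (fxd A : AddSubgroup M)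
      set y := Nat.card (fxd B : AddSubgroup M)
      set z := Nat.card ↥(fxd A ⊓ fxd B : AddSubgroup M)
      set g := Nat.card (fxd F : AddSubgroup M)
      set m := Nat.card M
      set α := Nat.card A
      set β := Nat.card B
      set φ := Nat.card F
      -- c2 : x x ≤ g z; s1 : m z = x y; n1 : φ g ≤ m; n2 : β y ≤ m; n3 : m ≤ α x
      refine Nat.le_of_mul_le_mul_right (c := x * x * y) ?_ (Nat.mul_pos (Nat.mul_pos p2 p2) p3)
      calc β * φ * (x * x * y) ≤ β * φ * (g * z * y) := Nat.mul_le_mul_left _ (Nat.mul_le_mul_right _ c2)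
        _ = (φ * g) * (β * y) * z := by ring
        _ ≤ m * m * z := Nat.mul_le_mul_right _ (Nat.mul_le_mul n1 n2)
        _ = m * (x * y) := by rw [← s1]; ring
        _ ≤ (α * x) * (x * y) := Nat.mul_le_mul_right _ n3
        _ = α * (x * x * y) := by ring
    have c5 : Nat.card B * Nat.card F ≤ Nat.card Bc * Nat.card F := c4.trans c1
    exact absurd (Nat.le_of_mul_le_mul_right c5 p1) (not_le.2 c3)

/-- **(c)** -/
theorem commX : CommX M S := by
  have key : ∀ n, ∀ A ≤ S, El A → Xa M A → Nat.card A = n → ∀ B ≤ S, Mn M B → ∀ a ∈ A, ∀ b ∈ B, a * b = b * a := by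
    intro n
    induction n using Nat.strong_induction_on with
    | _ n ih =>
      intro A hA eA xA hn B hB mB
      have hS : A ⊔ B ≤ S := sup_le hA hB
      have hne : A ⊔ B ≠ ⊥ := fun e => mB.ne (le_bot_iff.1 (e ▸ le_sup_right))
      obtain ⟨h, hh, P, hP, hmv⟩ := G.gal _ hS hne
      have hA' : MulAut.conj h • A ≤ S := (cj_mono le_sup_left).trans hh
      have hB' : MulAut.conj h • B ≤ S := (cj_mono le_sup_right).trans hh
      have hk : ∀ a ∈ MulAut.conj h • A, ∀ b ∈ MulAut.conj h • B, a * b = b * a := by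
        by_cases h1 : Fx (W P) (MulAut.conj h • B)
        · have h2 : ¬ Fx (W P) (MulAut.conj h • A) := fun h2 => hmv (by
            rw [Subgroup.smul_sup]
            exact fx_sup G h2 h1)
          refine G.commX_key hP hA' (eA.cj h) (xA.cj h) h2 hB' (mB.cj h) h1 fun A' hA'' eA' xA' hlt => ?_
          rw [card_cj, hn] at hlt
          exact ih _ hlt A' hA'' eA' xA' rfl
        · exact G.ab P hP _ hA' (eA.cj h) (xA.cj h) _ hB' (mB.cj h) h1
      intro a ha b hb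
      have h1 := hk _ (mem_cj_of ha) _ (mem_cj_of hb)
      have h2 : h * (a * b) * h⁻¹ = h * (b * a) * h⁻¹ := by
        calc h * (a * b) * h⁻¹ = h * a * h⁻¹ * (h * b * h⁻¹) := by group
          _ = h * b * h⁻¹ * (h * a * h⁻¹) := h1
          _ = _ := by group
      exact mul_left_cancel (mul_right_cancel h2)
  exact fun A hA eA xA B hB mB => key _ A hA eA xA rfl B hB mB

end Gy

end Cfsg.Agent.Omega.NOThreeL.RRed.Ex

end
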