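import Cfsg.Agent.Mrg.Omega.NOThreeL.RRed.Ex.Sg
import Cfsg.Agent.Mrg.Omega.NOThreeL.RRed.EOneTr
import Cfsg.Agent.Mrg.Omega.NOThreeL.RRed.AtomTv
import Cfsg.Agent.Mrg.Omega.NOThreeL.RZ.TwoC.FrEOf
import Cfsg.Agent.Mrg.Omega.NOThreeL.RRed.Ex.Lat
import Cfsg.Agent.Mrg.Omega.NOThreeL.RRed.Ex.Def
import Cfsg.Agent.Mrg.Omega.NOThreeL.RRed.Ex.Inst
import Cfsg.Agent.Mrg.Omega.NOThreeL.RRed.Ex.Pf
import Cfsg.Agent.Mrg.Omega.NOThreeL.RRed.FourTree
import Cfsg.Agent.Mrg.Omega.NOThreeL.RRed.Blk.AsmInp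
import Cfsg.Agent.Mrg.Omega.NOThreeL.RZ.TwoE.Tv
import Cfsg.Agent.Mrg.Omega.NOThreeL.RZ.TwoE.TvBad
import Cfsg.Agent.Mrg.Omega.NOThreeL.RZ.TwoC.EndP

section


/-!
# NO-3L, box R: THEOREM EX (#26554), group form (text: helper245)

* `ExG S L` : if all minimal exact `B ≤ S` on `V = zl S L` centralise the `L`-invariant `D ≤ V`, then all exact
  elementary abelian `A ≤ S` centralise `D`;
* **`exG_of`** : `ExG S L` from the statement `ExThm` for the faithful module;
* `cent_of_exG` : best offenders instead of exact groups;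
* **`best_cent`, `hb_of`** : `V* = ⟨Z^Y⟩`: the best offenders of `S` centralise the `Y`-invariant `D ≤ V*` which is
  centralised by `E₁`; in particular `R₁`.
-/

set_option autoImplicit false
set_option linter.unusedSectionVars false

namespace Cfsg.Agent.Omega.NOThreeL.RRed.Ex.Cent

open Subgroup Cfsg
open Cfsg.Agent.ZN (o2 zc zl jj)
open Cfsg.Agent.ZN.ChoiceBase hiding mem_zc
open Cfsg.Agent.Omega.MinPar Cfsg.Agent.Omega.Frame Cfsg.Agent.Omega.FrameNOFF
open Cfsg.Agent.Omega.FFThm (ElemM OffM NoOverM)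
open Cfsg.Agent.Omega.NO1.BestOff (Best)
open Cfsg.Agent.Omega.NOThreeL.Star (YS le_YS S_le_YS)
open Cfsg.Agent.Omega.NOThreeL.RSplit (Nrm)
open Cfsg.Agent.Omega.NOThreeL.RRed.Blk.AsmCore (im im_mono)
open Cfsg.Agent.Omega.NOThreeL.RRed.EOne (E1 Z1 R1)
open Cfsg.Agent.Omega.NOThreeL.RTree (RB)
open Cfsg.Agent.MinSimple.VModule (le_normalizer_zl)
open scoped Pointwise

universe u

variable {G : Type u} [Group G]

/-- **THEOREM EX in `G`.** -/
def ExG (S L : Subgroup G) : Prop :=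
  ∀ D ≤ zl S L, L ≤ normalizer (D : Set G) → (∀ B ≤ S, Mx (zl S L) B → B ≤ centralizer (D : Set G)) →
    ∀ A ≤ S, ElemM (zl S L) A → Exa (zl S L) A → A ≤ centralizer (D : Set G)

section fin

variable [Finite G]

/-- from the faithful module to `G` -/
theorem exG_of {S L : Subgroup G} (Q : Nrm L (zl S L)) (hSL : S ≤ L) (hp : IsPGroup 2 S)
    (hno : NoOverM (zl S L) L) (ex : ExThm Q.Mod (im Q S)) : ExG S L := by
  intro D hD hLD hb A hA hE hX
  have hAL := hA.trans hSL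
  rw [← Dict.ad_le_fxd Q hD hAL]
  refine ex (Q.ad D) (Dict.inv_ad Q hLD) (fun B' hB' hm => ?_) (im Q A) (im_mono Q hA)
    ((Dict.el_iff Q hAL).2 hE) (Dict.xa_of Q hAL hX)
  obtain ⟨B, hBS, hBL, rfl⟩ := Dict.exists_im Q hB'
  exact (Dict.ad_le_fxd Q hD hBL).2 (hb B hBS (Dict.mx_of Q hno hBL (hp.to_le hBS) hm))

/-- the same for best offenders -/
theorem cent_of_exG {S L D A : Subgroup G} (ex : ExG S L) (hSL : S ≤ L) (hno : NoOverM (zl S L) L) (hD : D ≤ zl S L)
    (hLD : L ≤ normalizer (D : Set G)) (hb : ∀ B ≤ S, Mx (zl S L) B → B ≤ centralizer (D : Set G)) (hA : A ≤ S)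
    (hbA : Best (zl S L) A) : A ≤ centralizer (D : Set G) :=
  ex D hD hLD hb A hA hbA.toElemM (TvExa.exa_of_best hno (hA.trans hSL) hbA)

variable {S : Sylow 2 G}

/-- an offender of `S` on `V*` : no over-offenders -/
theorem no_of_off (h : RB S) {A : Subgroup G} (hA : A ≤ YS (S : Subgroup G))
    (hm : OffM (zl (S : Subgroup G) (YS S)) A) : NoOverM (zl (S : Subgroup G) (YS S)) (YS (S : Subgroup G)) := by
  have hSY := S_le_YS h.ctx h.full
  have hne : (S : Subgroup G) ≠ ⊥ := by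
    intro h0
    apply hm.ne
    have h1 : zl (S : Subgroup G) (YS S) = ⊥ := le_bot_iff.1 (h0 ▸ EOne.VS h)
    rw [h1]
    exact fun x _ => mem_centralizer_iff.2 fun y hy => by rw [mem_bot.1 hy, one_mul, mul_one]
  exact (exists_gOne h.ctx.char2 (Star.isLoc h.ctx.char2 h.data.noff hSY hne)
    (sSup_le fun P hP => le_sSup ⟨hP, le_YS hP⟩) ⟨A, hA, hm⟩).choose_spec.choose_spec.no

theorem off_of_best {V A : Subgroup G} (hb : Best V A) (hne : ¬ A ≤ centralizer (V : Set G)) : OffM V A := by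
  refine { toElemM := hb.toElemM, ne := hne, le := ?_ }
  have h1 := hb.max (A ⊓ centralizer (V : Set G)) inf_le_left le_rfl
  have h2 : V ⊓ centralizer ((A ⊓ centralizer (V : Set G) : Subgroup G) : Set G) = V :=
    inf_eq_left.2 (le_centralizer_iff.1 inf_le_right)
  rw [h2, mul_comm] at h1
  exact h1

/-- **The best offenders of `S` centralise the `Y`-invariant subgroups of `C_{V*}(E₁)`.** -/
theorem best_cent (h : RB S)
    (ex : NoOverM (zl (S : Subgroup G) (YS S)) (YS (S : Subgroup G)) → ExG (S : Subgroup G) (YS S)) {D : Subgroup G}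
    (hD : D ≤ zl (S : Subgroup G) (YS S)) (hYD : YS (S : Subgroup G) ≤ normalizer (D : Set G))
    (hE : E1 (S : Subgroup G) ≤ centralizer (D : Set G)) :
    ∀ A ≤ (S : Subgroup G), Best (zl (S : Subgroup G) (YS S)) A → A ≤ centralizer (D : Set G) := by
  intro A hA hbA
  by_cases hne : A ≤ centralizer (zl (S : Subgroup G) (YS S) : Set G)
  · exact hne.trans (centralizer_le hD)
  have hSY := S_le_YS h.ctx h.full
  have hno := no_of_off h (hA.trans hSY) (off_of_best hbA hne)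
  exact cent_of_exG (ex hno) hSY hno hD hYD (fun B hB hm => (EOne.mx_le_E1 hB hm).trans hE) hA hbA

/-- **`hb`: the best offenders of `S` centralise `R₁`.** -/
theorem hb_of (h : RB S)
    (ex : NoOverM (zl (S : Subgroup G) (YS S)) (YS (S : Subgroup G)) → ExG (S : Subgroup G) (YS S)) :
    ∀ A ≤ (S : Subgroup G), Best (zl (S : Subgroup G) (YS S)) A → A ≤ centralizer (R1 (S : Subgroup G) : Set G) :=
  best_cent h ex EOne.R1_le (EOne.YS_le_norm_R1 _) EOne.E1_cent

/-- the same for the groups of `𝒜(O₂(C_G(Z)))` (Thompson) -/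
theorem hA_of (h : RB S)
    (ex : NoOverM (zl (S : Subgroup G) (YS S)) (YS (S : Subgroup G)) → ExG (S : Subgroup G) (YS S)) {D : Subgroup G}
    (hD : D ≤ zl (S : Subgroup G) (YS S)) (hYD : YS (S : Subgroup G) ≤ normalizer (D : Set G))
    (hE : E1 (S : Subgroup G) ≤ centralizer (D : Set G))
    (low : zl (S : Subgroup G) (YS S) ≤ o2 (CZ (S : Subgroup G))) :
    ∀ A ∈ AA (o2 (CZ (S : Subgroup G))), A ≤ centralizer (D : Set G) := fun A hA =>
  best_cent h ex hD hYD hE A (hA.2.1.trans RZ.TwoC.Loc.o2C_le)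
    (RZ.TwoC.FrEOf.best_of_mem (NO3S.EThree.ExactA.eab_iff.2 ⟨EOne.VC h, EOne.Vsq h⟩) low hA)

end fin

end Cfsg.Agent.Omega.NOThreeL.RRed.Ex.Cent

end

section


/-!
# NO-3L, box R: THEOREM EX (#26554), assembly

* `gp_of` : `Gp` for one `P`;
* **`exG`** : `ExG S L` for `L` local, generated by its `P ∈ P*(S)`;  **`exB`** : for `V*`.
-/

set_option autoImplicit false
set_option linter.unusedSectionVars false

namespace Cfsg.Agent.Omega.NOThreeL.RRed.Ex.Main

open Subgroup Cfsg Cfsg.Agent.ZN Cfsg.Agent.Omega.MinPar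
open Cfsg.Agent.Omega.FFThm
open Cfsg.Agent.Omega.FrameFF (cv)
open Cfsg.Agent.Omega.NO3S.ThmB (Sb)
open Cfsg.Agent.Omega.NOThreeL.Star (YS)
open Cfsg.Agent.Omega.NOThreeL.RSplit (Nrm)
open Cfsg.Agent.Omega.NOThreeL.RRed.Blk.AsmCore (im)
open Cfsg.Agent.Omega.NOThreeL.RTree (RB)
open Cfsg.Agent.Omega.NOThreeL.RRed.Ex.Inst (Gp gy_of)
open Cfsg.Agent.Omega.NOThreeL.RRed.Ex.Cent (ExG exG_of)

universe u

variable {G : Type u} [Group G] [Finite G] {S : Sylow 2 G} {L P : Subgroup G}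

theorem gp_of (hc : IsCharacteristicTwoType G) (Q : Nrm L (zl (S : Subgroup G) L))
    (hL : IsLoc (S : Subgroup G) L) (hP : IsParS (S : Subgroup G) P)
    (hPL : P ≤ L) (hno : NoOverM (zl (S : Subgroup G) L) L) :
    Gp Q.Mod (im Q (S : Subgroup G)) (im Q P) (Q.ad (zl (S : Subgroup G) P)) := by
  have hU2 := FFThm.elem_zl hc S hL
  have hVU : zl (S : Subgroup G) P ≤ zl (S : Subgroup G) L := NOThreeL.Star.zl_mono _ hPL
  have pf : ConclM (S : Subgroup G) P → Pf (S : Subgroup G) P (zl (S : Subgroup G) P) (zl (S : Subgroup G) L) :=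
    fun con => pf_of' hc hP hU2 hVU con fun hM => SymOut.pf_sym hM hU2 hVU
  exact
    { sy := InstB.sy S Q hP.le hPL
      split := InstB.split hc Q hP hPL hno
      one := OneQuad.one Q hc hL hP hPL hno
      quad := OneQuad.quad Q hc hL hP hPL hno
      out := Tr1.out Q hc hP hPL hno pf
      pair := Tr1.pair Q hc hP hPL hno pf
      sg := Sg.sg hc Q hP hPL hno pf
      cov := Cov.cov hc Q hP hPL hno
      wab := Wab.wab hc Q hP hPL hno }

/-- **THEOREM EX for a local `L`.** -/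
theorem exG (hc : IsCharacteristicTwoType G) (hSL : (S : Subgroup G) ≤ L)
    (hL : IsLoc (S : Subgroup G) L) (gen : L ≤ sSup {P | IsParS (S : Subgroup G) P ∧ P ≤ L})
    (hno : NoOverM (zl (S : Subgroup G) L) L) : ExG (S : Subgroup G) L := by
  have el := FFThm.elem_zl hc S hL
  have Q : Nrm L (zl (S : Subgroup G) L) :=
    { ab := fun u hu v hv => congrArg Subtype.val (el.1.is_comm.comm ⟨u, hu⟩ ⟨v, hv⟩)
      nrm := MinSimple.VModule.le_normalizer_zl _ _ }
  have g := gy_of Q hc hSL hL gen el hno fun P hP hPL => gp_of hc Q hL hP hPL hno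
  exact exG_of Q hSL S.isPGroup' hno (exThm g g.commX)

/-- **THEOREM EX for `V*`.** -/
theorem exB (hG : RB S) (hno : NoOverM (zl (S : Subgroup G) (YS S)) (YS (S : Subgroup G))) :
    ExG (S : Subgroup G) (YS S) :=
  exG hG.ctx.char2 (EOne.S_YS hG) (Merge.isLoc_MZ hG.ctx hG.full hG.data.noff) (FourTree.gen_MZ S) hno

end Cfsg.Agent.Omega.NOThreeL.RRed.Ex.Main

end

section


/-!
# [R-z]: the socket `TvO` (a transvection in `S`, `C_Z(E₁) ≠ 1`)

`frE_tvS` (the frame `FrE S R₁ (∏ N b) e` from the transvection blocks), `FrE.false_of`, `tv_bad`, and THEOREM EX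
(`Ex.Main.exB`, the best offenders of `S` centralise `R₁`).

* **`tvO`** : `TvO`.
-/

set_option autoImplicit false
set_option linter.unusedSectionVars false

namespace Cfsg.Agent.Omega.NOThreeL.RZ.TwoE.TvEnd

open Subgroup Cfsg
open Cfsg.Agent.ZN (o2 zc zl jj)
open Cfsg.Agent.Omega.ML.Final (MLK)
open Cfsg.Agent.Omega.NOThreeL.Star (YS)
open Cfsg.Agent.Omega.NOThreeL.RTreeF (RBF)
open Cfsg.Agent.Omega.NOThreeL.RTree (RB)
open Cfsg.Agent.Omega.NOThreeL.RZ.TwoC (FrE)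
open Cfsg.Agent.Omega.NOThreeL.RRed.Ex.Cent (hb_of)

universe u

/-- **The socket `TvO`.** -/
theorem tvO (hM : MLK.{u, u}) (hR : NO3b.EndX.RedP.{u, u}) (hE : ML.Ex.Two.Ext.{u, u}) : NrTree.TvO.{u} := by
  intro G _ _ S h h1 ht
  have hB : RB S := h.toRB
  obtain ⟨I, i1, i2, N, E, R₀, Om, i3, i4, phi, F, hRR, e, he, f⟩ :=
    Tv.frE_tvS hB ht h1 (hb_of hB (RRed.Ex.Main.exB hB))
  have := F.nonempty
  exact f.false_of hM hR hE (TvBad.tv_bad F.toFull hRR (RRed.EOne.Vsq hB))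

end Cfsg.Agent.Omega.NOThreeL.RZ.TwoE.TvEnd

end
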